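import Cfsg.Agent.FiLarge.Iso.Flag
import Cfsg.Agent.Coset.Fi24Schur.Stem
import Mathlib.GroupTheory.SemidirectProduct

/-!
A copy of `Fi23` and an element of order three inverted by nine letters give a map of the triple cover of the simple
`Fi24`: the twelve letters are sent to the square of the group extended by the exchange.
-/

set_option autoImplicit false
set_option maxRecDepth 100000
set_option linter.style.haveILetI false
set_option linter.unusedSectionVars false

namespace CfsgLib.FiLarge.Iso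

open CfsgLib CfsgLib.ThreeT
open CfsgLib.Coset (fl ev ev_cons ev_nil fl_of_le)
open CfsgLib.Coset.Fi24 (A la rels0 fl_la_zero fl_la_one fl_la_add)
open CfsgLib.Coset.Fi24.Schur (π0 π0_fl D0)

variable (G : Type*) [Group G]

/-- The exchange of the two factors. -/
def swp : Multiplicative (ZMod 2) →* MulAut (G × G) :=
  MonoidHom.mk' (fun e => if e = 1 then 1 else MulEquiv.prodComm) (by
    intro a b
    have key : ∀ a b : Multiplicative (ZMod 2),
        (a = 1 → a * b = b) ∧ (b = 1 → a * b = a) ∧ (a ≠ 1 → b ≠ 1 → a * b = 1) := by decide +kernel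
    obtain ⟨k1, k2, k3⟩ := key a b
    by_cases ha : a = 1
    · simp [ha]
    · by_cases hb : b = 1
      · simp [hb]
      · simp only [ha, hb, k3 ha hb, if_true, if_false]
        exact MulEquiv.ext fun p => rfl)

/-- The square extended by the exchange. -/
abbrev Dbl : Type _ := (G × G) ⋊[swp G] Multiplicative (ZMod 2)

variable {G}

theorem swp_diag (e : Multiplicative (ZMod 2)) (x : G) : swp G e (x, x) = (x, x) := by
  by_cases he : e = 1 <;> simp [swp, he]

theorem swp_tau (x y : G) : swp G Coset.Fi24.tau (x, y) = (y, x) := by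
  have : Coset.Fi24.tau ≠ 1 := by decide +kernel
  simp [swp, this]

variable (th : Cfsg.Spor.Fi23 →* G) (r : G)

/-- The diagonal map. -/
def diag : A →* Dbl G :=
  MonoidHom.mk' (fun a => ⟨(th a.1, th a.1), a.2⟩) fun a b => SemidirectProduct.ext (by
    show (th (a.1 * b.1), th (a.1 * b.1)) = (th a.1, th a.1) * swp G a.2 (th b.1, th b.1)
    rw [swp_diag, map_mul, Prod.mk_mul_mk]) rfl

/-- The image of the second letter. -/
def kD : Dbl G := ⟨(r⁻¹, r), Coset.Fi24.tau⟩

/-- The images of the twelve letters. -/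
noncomputable def LD : List (Dbl G) := (List.range 12).map fun l => if l = 1 then kD r else diag th (fl la l)

theorem fl_LD_one : fl (LD th r) 1 = kD r := by simp [LD, fl, List.getD_eq_getElem?_getD]

theorem fl_LD {l : Nat} (hl : l ≠ 1) : fl (LD th r) l = diag th (fl la l) := by
  rcases lt_or_ge l 12 with h | h
  · simp [LD, fl, List.getD_eq_getElem?_getD, h, hl]
  · rw [fl_of_le _ (by simp [LD]; exact h), fl_of_le _ (Coset.Fi24.len_la ▸ h), map_one]

theorem ev_LD : ∀ w : List Nat, (∀ x ∈ w, x ≠ 1) → ev (LD th r) w = diag th (ev la w) := by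
  intro w
  induction w with
  | nil => intro _; simp
  | cons x w ih =>
    intro hw
    rw [ev_cons, ev_cons, map_mul, fl_LD th r (hw x (by simp)), ih fun y hy => hw y (by simp [hy])]

variable {th r}

theorem kD_mul_diag (z : Cfsg.Spor.Fi23) :
    kD r * diag th (z, Coset.Fi24.tau) = (⟨(r⁻¹ * th z, r * th z), 1⟩ : Dbl G) := by
  refine SemidirectProduct.ext ?_ Coset.Fi24.tau_sq
  show (r⁻¹, r) * swp G Coset.Fi24.tau (th z, th z) = _
  rw [swp_diag, Prod.mk_mul_mk]

theorem one_side_pow (x y : G) (n : ℕ) : (⟨(x, y), 1⟩ : Dbl G) ^ n = ⟨(x ^ n, y ^ n), 1⟩ :=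
  (map_pow (SemidirectProduct.inl : (G × G) →* Dbl G) (x, y) n).symm

theorem LD_rels (hr : r ^ 3 = 1) (ha : (th (zl 0) * r⁻¹) ^ 3 = 1)
    (hinv : ∀ m, 1 ≤ m → m < 10 → th (zl m) * r * th (zl m) = r⁻¹) :
    ∀ w ∈ rels0, ev (LD th r) w = 1 := by
  intro w hw
  have h := Coset.allList_iff.mp Coset.Fi24.rel_shapes w hw
  unfold Coset.Fi24.relShape at h
  have z2 : ∀ m, th (zl m) * th (zl m) = 1 := fun m => by
    rw [← map_mul, Coset.Fi23.sq_all, map_one]
  cases h1 : Coset.wordEq w [1, 1]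
  · rw [h1, cond_false] at h
    cases h2 : Coset.wordEq w [0, 1, 0, 1, 0, 1]
    · rw [h2, cond_false] at h
      cases h3 : Coset.wordEq w [1, 2, 1, 2, 1, 2]
      · rw [h3, cond_false] at h
        cases h4 : [3, 4, 5, 6, 7, 8, 9, 10, 11].any fun x => decide (w = [1, x, 1, x])
        · rw [h4, cond_false, Coset.cond_false_eq_true] at h
          have hne : ∀ x ∈ w, x ≠ 1 := fun x hx hx1 => by
            have := Coset.allList_iff.mp h.1 x hx
            subst hx1
            simp at this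
          rw [ev_LD th r w hne, Coset.Fi24.eq_one_of_oneA h.2, map_one]
        · obtain ⟨x, hx, hwx⟩ := List.any_eq_true.mp h4
          rw [decide_eq_true_eq] at hwx
          subst hwx
          obtain ⟨m, rfl, hm1, hm2⟩ : ∃ m, x = m + 2 ∧ 1 ≤ m ∧ m < 10 :=
            ⟨x - 2, by simp only [List.mem_cons, List.not_mem_nil, or_false] at hx; omega,
              by simp only [List.mem_cons, List.not_mem_nil, or_false] at hx; omega,
              by simp only [List.mem_cons, List.not_mem_nil, or_false] at hx; omega⟩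
          simp only [ev_cons, ev_nil, mul_one, fl_LD_one, fl_LD th r (show m + 2 ≠ 1 by omega), fl_la_add hm2]
          rw [← mul_assoc, kD_mul_diag, ← pow_two, one_side_pow]
          have e := hinv m hm1 hm2
          refine SemidirectProduct.ext (Prod.ext ?_ ?_) rfl
          · show (r⁻¹ * th (zl m)) ^ 2 = 1
            rw [← e, pow_two]
            simp only [mul_assoc, z2, mul_one]
            rw [← mul_assoc (th (zl m)) r, ← mul_assoc (th (zl m) * r), mul_assoc (th (zl m) * r) (th (zl m)) r,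
              show th (zl m) * r * (th (zl m) * r) = th (zl m) * r * th (zl m) * r by group, e, inv_mul_cancel]
          · show (r * th (zl m)) ^ 2 = 1
            rw [pow_two, show r * th (zl m) * (r * th (zl m)) = r * (th (zl m) * r * th (zl m)) by group, e,
              mul_inv_cancel]
      · rw [Coset.eq_of_wordEq h3]
        simp only [ev_cons, ev_nil, mul_one, fl_LD_one, fl_LD th r (show (2 : Nat) ≠ 1 by norm_num),
          show fl la 2 = (zl 0, Coset.Fi24.tau) from fl_la_add (l := 0) (by norm_num)]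
        rw [← mul_assoc (kD r), ← mul_assoc (kD r), kD_mul_diag, ← pow_two, ← pow_succ', one_side_pow]
        have e1 : (r⁻¹ * th (zl 0)) ^ 3 = 1 := by
          rw [show r⁻¹ * th (zl 0) = (th (zl 0))⁻¹ * (th (zl 0) * r⁻¹) * (th (zl 0))⁻¹⁻¹ by group, conj_pow, ha]
          group
        have e2 : (r * th (zl 0)) ^ 3 = 1 := by
          rw [show r * th (zl 0) = (th (zl 0) * r⁻¹)⁻¹ by
            rw [mul_inv_rev, inv_inv, inv_eq_of_mul_eq_one_right (z2 0)], inv_pow, ha, inv_one]
        exact SemidirectProduct.ext (Prod.ext e1 e2) rfl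
    · rw [Coset.eq_of_wordEq h2]
      simp only [ev_cons, ev_nil, mul_one, fl_LD_one, fl_LD th r (show (0 : Nat) ≠ 1 by norm_num), fl_la_zero]
      have e : diag th (1, Coset.Fi24.tau) * kD r = (⟨(r, r⁻¹), 1⟩ : Dbl G) := by
        refine SemidirectProduct.ext ?_ Coset.Fi24.tau_sq
        show (th 1, th 1) * swp G Coset.Fi24.tau (r⁻¹, r) = _
        rw [swp_tau, map_one, Prod.mk_mul_mk, one_mul, one_mul]
      simp only [← mul_assoc]
      rw [e, mul_assoc _ (diag th _), e, mul_assoc _ (diag th _), e, ← pow_two, ← pow_succ, one_side_pow]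
      exact SemidirectProduct.ext (Prod.ext hr (by show r⁻¹ ^ 3 = 1; rw [inv_pow, hr, inv_one])) rfl
  · rw [Coset.eq_of_wordEq h1]
    simp only [ev_cons, ev_nil, mul_one, fl_LD_one]
    refine SemidirectProduct.ext ?_ Coset.Fi24.tau_sq
    show (r⁻¹, r) * swp G Coset.Fi24.tau (r⁻¹, r) = _
    rw [swp_tau, Prod.mk_mul_mk, inv_mul_cancel, mul_inv_cancel]
    rfl

/-- An element of order two and one of order three whose product with it has order three. -/
theorem a4_comm {t r : G} (t2 : t * t = 1) (hr : r ^ 3 = 1) (h : (t * r⁻¹) ^ 3 = 1) :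
    Commute t (r * t * r⁻¹) := by
  have rr : r⁻¹ * r⁻¹ = r := by
    rw [← mul_inv_rev]
    exact inv_eq_of_mul_eq_one_left (by rw [← hr, pow_succ, pow_two, mul_assoc])
  have ti : t⁻¹ = t := inv_eq_of_mul_eq_one_right t2
  have e1 : t * r⁻¹ * t = r * t * r := by
    have h' : (t * r⁻¹ * t) * (r⁻¹ * t * r⁻¹) = 1 := by
      rw [← h, pow_succ, pow_two]; group
    rw [eq_inv_of_mul_eq_one_left h', mul_inv_rev, mul_inv_rev, inv_inv, ti, ← mul_assoc]
  have e2 : t * r * t = r⁻¹ * t * r⁻¹ := by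
    have := congrArg (·⁻¹) e1
    simp only [mul_inv_rev, inv_inv, ti] at this
    simpa [mul_assoc] using this
  show t * (r * t * r⁻¹) = r * t * r⁻¹ * t
  calc t * (r * t * r⁻¹) = (t * r * t) * r⁻¹ := by group
    _ = r⁻¹ * t * (r⁻¹ * r⁻¹) := by rw [e2]; group
    _ = r⁻¹ * t * r := by rw [rr]
    _ = r * (r * t * r) := by
      have rr' : r * r = r⁻¹ := eq_inv_of_mul_eq_one_left (by rw [← hr, pow_succ, pow_two])
      rw [← rr']; group
    _ = r * t * r⁻¹ * t := by rw [← e1]; group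

variable (th r)

/-- The map of the cover. -/
theorem exists_hom (hr : r ^ 3 = 1) (ha : (th (zl 0) * r⁻¹) ^ 3 = 1)
    (hinv : ∀ m, 1 ≤ m → m < 10 → th (zl m) * r * th (zl m) = r⁻¹) :
    ∃ f : ↥D0 →* G, (∀ z, ∃ v : ↥D0, f v = th z ∧ π0 (v : Coset.Fi24.G0) = pe z) ∧
      ∃ w : ↥D0, f w = r * th (zl 0) * r⁻¹ ∧ Commute (th (zl 0)) (f w) ∧
        ¬ Commute s24 (π0 (w : Coset.Fi24.G0)) := by
  let f0 : Coset.Fi24.G0 →* Dbl G := Coset.Fi24.pres0.hom Coset.Fi24.pres0_ok (L := LD th r)
    (fun w hw => LD_rels hr ha hinv w (Coset.Fi24.rels0_eq ▸ hw))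
  have hfl : ∀ l < 12, f0 (fl Coset.Fi24.Lg0 l) = fl (LD th r) l := by
    intro l hl
    obtain ⟨x, rfl⟩ := Coset.Fi24.hix l hl
    exact Coset.Fi24.pres0.hom_fl Coset.Fi24.pres0_ok _ x
  have hright : ∀ g, (f0 g).right = Coset.Fi24.sgn (π0 g) := by
    refine DFunLike.congr_fun (MonoidHom.eq_of_eqOn_dense (f := SemidirectProduct.rightHom.comp f0)
      (g := Coset.Fi24.sgn.comp π0) Coset.Fi24.frame0.gen ?_)
    intro x hx
    obtain ⟨l, hl, rfl⟩ := List.getElem_of_mem hx
    have hl' : l < 12 := Coset.Fi24.frame0.len ▸ hl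
    rw [← List.getD_eq_getElem Coset.Fi24.Lg0 1 hl]
    show (f0 (fl Coset.Fi24.Lg0 l)).right = Coset.Fi24.sgn (π0 (fl Coset.Fi24.Lg0 l))
    rw [hfl l hl', π0_fl hl', Coset.Fi24.sgn_fl hl']
    rcases eq_or_ne l 1 with rfl | h1
    · rw [fl_LD_one]; rfl
    rw [fl_LD th r h1]
    show (fl la l).2 = _
    match l, hl', h1 with
    | 0, _, _ => rfl
    | 1, _, h => exact absurd rfl h
    | m + 2, hm, _ => rw [fl_la_add (by omega)]
  have h1 : ∀ d : ↥D0, (f0 (d : Coset.Fi24.G0)).right = 1 := fun d => (hright _).trans d.2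
  let f : ↥D0 →* G := MonoidHom.mk' (fun d => (f0 (d : Coset.Fi24.G0)).left.1) fun a b => by
    rw [Subgroup.coe_mul, map_mul, SemidirectProduct.mul_left, h1 a, map_one]
    rfl
  have hpair : ∀ l < 12, fl Coset.Fi24.Lg0 0 * fl Coset.Fi24.Lg0 l ∈ D0 := fun l hl => by
    show Coset.Fi24.sgn (π0 _) = 1
    rw [map_mul, map_mul, π0_fl (by norm_num), π0_fl hl, Coset.Fi24.sgn_fl (by norm_num), Coset.Fi24.sgn_fl hl,
      Coset.Fi24.tau_sq]
  have hz : ∀ m < 10, ∃ v : ↥D0, f v = th (zl m) ∧ π0 (v : Coset.Fi24.G0) = pe (zl m) := fun m hm => by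
    refine ⟨⟨_, hpair (m + 2) (by omega)⟩, ?_, ?_⟩
    · show (f0 (fl Coset.Fi24.Lg0 0 * fl Coset.Fi24.Lg0 (m + 2))).left.1 = _
      rw [map_mul, hfl 0 (by norm_num), hfl (m + 2) (by omega), fl_LD th r (by norm_num),
        fl_LD th r (by omega), fl_la_zero, fl_la_add hm, ← map_mul, Prod.mk_mul_mk, one_mul]
      rfl
    · show π0 (fl Coset.Fi24.Lg0 0 * fl Coset.Fi24.Lg0 (m + 2)) = _
      rw [map_mul, π0_fl (by norm_num), π0_fl (by omega), pe_eq, pt_zl hm]
      rfl
  refine ⟨f, fun z => ?_, ?_⟩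
  · have hle : (⊤ : Subgroup Cfsg.Spor.Fi23) ≤ (f.prod (π0.comp D0.subtype)).range.comap (th.prod pe) := by
      rw [← Coset.Fi23.closure_Lg, Subgroup.closure_le]
      intro x hx
      obtain ⟨l, hl, rfl⟩ := List.getElem_of_mem hx
      obtain ⟨v, h1, h2⟩ := hz l (Coset.Fi23.len_Lg ▸ hl)
      refine ⟨v, Prod.ext ?_ ?_⟩
      · rw [← List.getD_eq_getElem Coset.Fi23.Lg 1 hl]; exact h1
      · rw [← List.getD_eq_getElem Coset.Fi23.Lg 1 hl]; exact h2
    obtain ⟨v, hv⟩ := hle (Subgroup.mem_top z)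
    exact ⟨v, congrArg Prod.fst hv, congrArg Prod.snd hv⟩
  obtain ⟨va, ha1, ha2⟩ := hz 0 (by norm_num)
  set vr : ↥D0 := ⟨_, hpair 1 (by norm_num)⟩ with hvr
  have hfr : f vr = r := by
    show (f0 (fl Coset.Fi24.Lg0 0 * fl Coset.Fi24.Lg0 1)).left.1 = r
    rw [map_mul, hfl 0 (by norm_num), hfl 1 (by norm_num), fl_LD th r (by norm_num), fl_LD_one, fl_la_zero]
    show ((th 1, th 1) * swp G Coset.Fi24.tau (r⁻¹, r)).1 = r
    rw [swp_tau, map_one, Prod.mk_mul_mk, one_mul]
  have hfw : f (vr * va * vr⁻¹) = r * th (zl 0) * r⁻¹ := by rw [map_mul, map_mul, map_inv, hfr, ha1]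
  refine ⟨vr * va * vr⁻¹, hfw, hfw ▸ a4_comm (by rw [← map_mul, Coset.Fi23.sq_all, map_one]) hr ha, ?_⟩
  intro hc
  have hπ : π0 ((vr * va * vr⁻¹ : ↥D0) : Coset.Fi24.G0) =
      (s24 * Coset.Fi24.kk) * pe (zl 0) * (s24 * Coset.Fi24.kk)⁻¹ := by
    rw [Subgroup.coe_mul, Subgroup.coe_mul, Subgroup.coe_inv, map_mul, map_mul, map_inv, ha2]
    show π0 (fl Coset.Fi24.Lg0 0 * fl Coset.Fi24.Lg0 1) * pe (zl 0) * _ = _
    rw [map_mul, π0_fl (by norm_num), π0_fl (by norm_num)]
    rfl
  rw [hπ] at hc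
  set s := s24 with hs
  set k := Coset.Fi24.kk
  set a := pt (zl 0) with hadef
  have s2 : s * s = 1 := Coset.Fi24.s_sq
  have k2 : k * k = 1 := Coset.Fi24.frame.sq 1
  have a2 : a * a = 1 := by
    rw [hadef, pt_zl (by norm_num)]; exact Coset.Fi24.frame.sq 2
  have si : s⁻¹ = s := inv_eq_of_mul_eq_one_right s2
  have ki : k⁻¹ = k := inv_eq_of_mul_eq_one_right k2
  have ai : a⁻¹ = a := inv_eq_of_mul_eq_one_right a2
  have sa : Commute s a := (pt_mem (zl_mem 0 (by norm_num))).2.2
  have sk : s * k * s = k * s * k := by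
    have h := Coset.Fi24.frame.rel _ (by decide +kernel : [0, 1, 0, 1, 0, 1] ∈ rels0)
    simp only [ev_cons, ev_nil, mul_one] at h
    change s * (k * (s * (k * (s * k)))) = 1 at h
    have h' : (s * k * s) * (k * s * k) = 1 := by simpa [mul_assoc] using h
    rw [eq_inv_of_mul_eq_one_left h']
    simp only [mul_inv_rev, si, ki, mul_assoc]
  have ak : a * k * a = k * a * k := by
    have h := Coset.Fi24.frame.rel _ (by decide +kernel : [1, 2, 1, 2, 1, 2] ∈ rels0)
    simp only [ev_cons, ev_nil, mul_one] at h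
    rw [hadef, pt_zl (by norm_num : 0 < 10)] at *
    change k * (fl Coset.Fi24.Lg 2 * (k * (fl Coset.Fi24.Lg 2 * (k * fl Coset.Fi24.Lg 2)))) = 1 at h
    have h' : (k * fl Coset.Fi24.Lg 2 * k) * (fl Coset.Fi24.Lg 2 * k * fl Coset.Fi24.Lg 2) = 1 := by
      simpa [mul_assoc] using h
    rw [eq_inv_of_mul_eq_one_left h']
    simp only [mul_inv_rev, inv_eq_of_mul_eq_one_right (Coset.Fi24.frame.sq 2), ki, mul_assoc]
  have hc' : Commute (k * s * k) (pe (zl 0)) := by
    have e0 : (s * k) * (k * s * k) * (s * k)⁻¹ = s := by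
      simp only [mul_inv_rev, si, ki, mul_assoc, ← mul_assoc k k, k2, one_mul]
      simp only [← mul_assoc, s2, one_mul, mul_one, k2]
    have h : Commute ((s * k) * (k * s * k) * (s * k)⁻¹) ((s * k) * pe (zl 0) * (s * k)⁻¹) := by
      rw [e0]; exact hc
    exact (commute_conj_iff _ _ _).1 h
  rw [← sk, pe_eq] at hc'
  have hk : Commute k (s * a) := by
    have h2 : Commute s (s * a) := (Commute.refl s).mul_right sa
    have := (h2.mul_left hc').mul_left h2
    rwa [show s * (s * k * s) * s = (s * s) * k * (s * s) by group, s2, one_mul, mul_one] at this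
  have e : s * k * s = a * k * a := by
    calc s * k * s = s * (k * (s * a)) * a := by simp only [mul_assoc, a2, mul_one]
      _ = s * (s * a * k) * a := by rw [hk.eq]
      _ = a * k * a := by simp only [← mul_assoc, s2, one_mul]
  rw [sk, ak] at e
  exact (pt_mem (zl_mem 0 (by norm_num))).2.1 (mul_left_cancel (mul_right_cancel e)).symm

end CfsgLib.FiLarge.Iso
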