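import Cfsg.Agent.FiLarge.Iso.Flag23
import Cfsg.Agent.FiLarge.Iso.Hom
import Cfsg.Agent.Coset.Fi24Out.Classes
import Cfsg.Agent.Spor3T.M24Invol

/-!
A group with the centraliser of the commutator subgroup of `Fi24` is that group: the image of the triple cover
contains every centraliser of an involution.
-/

set_option autoImplicit false
set_option quotPrecheck false
set_option linter.style.haveILetI false
set_option linter.unusedSectionVars false
set_option maxRecDepth 100000

namespace CfsgLib.FiLarge.Iso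

open CfsgLib Subgroup CfsgLib.ThreeT CfsgLib.ThreeT.Prod CfsgLib.FiLarge.Thom CfsgLib.FiLarge.U62 CfsgLib.FiLarge.Cent
open CfsgLib.FiLarge.Dat (val)
open CfsgLib.FiLarge.Aut (pp exists_three)
open CfsgLib.Coset.Fi24.Schur (π0 σ0 D0)

/-- An involution of the image of the cover is the image of one of two involutions of the copy of `Fi23`. -/
theorem invol_rep {G : Type*} [Group G] (f : ↥D0 →* G) (th : Cfsg.Spor.Fi23 →* G)
    (hz : ∀ z, ∃ v : ↥D0, f v = th z ∧ π0 (v : Coset.Fi24.G0) = pe z) {b c : Cfsg.Spor.Fi23}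
    (hb : b ∈ nb DR jR) (hc : c ∈ nb DR jR) (hbc : Commute b c) (hne : b ≠ c) (hk : f.ker ≤ σ0.ker) {u : G}
    (hu : u ∈ f.range) (h2 : u * u = 1) (h1 : u ≠ 1) :
    ∃ g ∈ f.range, g * u * g⁻¹ = th jR ∨ g * u * g⁻¹ = th (jR * b * c) := by
  classical
  haveI := Coset.Fi24.finite_group
  haveI := finite23
  haveI := Coset.Fi24.Schur.finite_G0
  obtain ⟨d, P⟩ := Coset.Fi24.exists_point
  obtain ⟨v0, rfl⟩ := hu
  have h3 : ∀ k ∈ σ0.ker, k ^ 3 = (1 : ↥D0) := fun k hk => by
    have h := pow_card_eq_one' (G := ↥σ0.ker) (x := ⟨k, hk⟩)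
    rw [Coset.Fi24.Schur.card_ker_σ0] at h
    exact congrArg Subtype.val h
  set v := v0 ^ 3 with hv
  have hfv : f v = f v0 := by rw [hv, map_pow, pow_succ, pow_two, h2, one_mul]
  have hv2 : v * v = 1 := by
    rw [hv, ← pow_add, show 3 + 3 = 2 * 3 by norm_num, pow_mul, pow_two]
    exact h3 _ (hk (by rw [MonoidHom.mem_ker, map_mul, h2]))
  set x := π0 (v : Coset.Fi24.G0) with hx
  have hx2 : x * x = 1 := by rw [hx, ← map_mul, ← Subgroup.coe_mul, hv2, OneMemClass.coe_one, map_one]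
  have hx1 : x ≠ 1 := by
    intro e
    have hk3 := h3 v (Subtype.ext e : σ0 v = 1)
    rw [pow_succ, pow_two, hv2, one_mul] at hk3
    exact h1 (by rw [← hfv, hk3, map_one])
  have hxord : orderOf x = 2 := orderOf_eq_prime (by rw [pow_two, hx2]) hx1
  have hxc : x ∈ commutator Cfsg.Spor.Fi24 := (σ0 v).2
  obtain ⟨i, i1, i4, hi⟩ := invol_short24 P hxord
  have hsgn : ∀ e ∈ conjugatesOf s24, Coset.Fi24.sgn e = Coset.Fi24.tau := by
    intro e he
    obtain ⟨g, rfl⟩ := isConj_iff.1 (show IsConj s24 e from he)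
    rw [map_mul, map_mul, map_inv, mul_comm (Coset.Fi24.sgn g), mul_inv_cancel_right]
    exact Coset.Fi24.sgn_fl (l := 0) (by norm_num)
  have hpar : Coset.Fi24.tau ^ i = 1 := by
    obtain ⟨l, -, hl, hm, -, hp⟩ := id hi
    have hs : Coset.Fi24.sgn x = 1 := by
      rw [Coset.Fi24.commutator_eq] at hxc
      exact hxc
    rw [← hp, map_list_prod] at hs
    rw [← hs, ← hl, List.prod_eq_pow_card (l.map Coset.Fi24.sgn) Coset.Fi24.tau, List.length_map]
    intro y hy
    obtain ⟨e, he, rfl⟩ := List.mem_map.1 hy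
    exact hsgn e (hm e he)
  have hi24 : i = 2 ∨ i = 4 := by
    rcases (by omega : i = 1 ∨ i = 2 ∨ i = 3 ∨ i = 4) with rfl | rfl | rfl | rfl
    · exact absurd hpar (by decide +kernel)
    · exact Or.inl rfl
    · exact absurd hpar (by decide +kernel)
    · exact Or.inr rfl
  have fin : ∀ z : Cfsg.Spor.Fi23, z * z = 1 → Facs (conjugatesOf s24) i (pe z) →
      ∃ g ∈ f.range, g * f v0 * g⁻¹ = th z := by
    intro z hz2 hfz
    obtain ⟨g0, hg0, e0⟩ := Coset.Fi24Out.facs_conj_in P i1 i4 hi hfz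
    obtain ⟨g, hg⟩ := Coset.Fi24.Schur.σ0_surjective ⟨g0, hg0⟩
    have hg' : π0 (g : Coset.Fi24.G0) = g0 := congrArg Subtype.val hg
    obtain ⟨vz, hvz, hπz⟩ := hz z
    refine ⟨f g, ⟨g, rfl⟩, ?_⟩
    set k := vz⁻¹ * (g * v * g⁻¹) with hkdef
    have hkk : k ∈ σ0.ker := Subtype.ext (by
      show π0 ((vz⁻¹ * (g * v * g⁻¹) : ↥D0) : Coset.Fi24.G0) = 1
      simp only [Subgroup.coe_mul, Subgroup.coe_inv, map_mul, map_inv, hπz, hg', ← hx, e0, inv_mul_cancel])
    have hkc := Coset.Fi24.Schur.isStem.2.1 hkk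
    have e1 : vz * k = g * v * g⁻¹ := by rw [hkdef, mul_inv_cancel_left]
    have hcomm : Commute (f vz) (f k) := (show Commute vz k from (Subgroup.mem_center_iff.1 hkc vz)).map f
    have e2 : f k * f k = 1 := by
      have h : f ((vz * k) * (vz * k)) = 1 := by
        rw [e1, show g * v * g⁻¹ * (g * v * g⁻¹) = g * (v * v) * g⁻¹ by group, hv2, mul_one, mul_inv_cancel, map_one]
      rwa [map_mul, map_mul, hcomm.symm.mul_mul_mul_comm (f vz) (f k), hvz, ← map_mul, hz2, map_one, one_mul] at h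
    have e3 : f k = 1 := by
      have h := congrArg f (h3 k hkk)
      rw [map_pow, map_one, pow_succ, pow_two, e2, one_mul] at h
      exact h
    calc f g * f v0 * (f g)⁻¹ = f (g * v * g⁻¹) := by rw [map_mul, map_mul, map_inv, hfv]
      _ = th z := by rw [← e1, map_mul, e3, mul_one, hvz]
  have hsj := (pt_mem jR_mem)
  rcases hi24 with rfl | rfl
  · obtain ⟨g, hg, e⟩ := fin jR (DR_sq jR_mem) ⟨[s24, pt jR], by simpa using hsj.2.1.symm, rfl,
      by simpa using ⟨IsConj.refl _, hsj.1⟩, by simpa using ⟨hsj.2.2, hsj.2.2.symm⟩, by rw [pe_eq]; simp⟩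
    exact ⟨g, hg, Or.inl e⟩
  · have hbS := pt_mem hb.1
    have hcS := pt_mem hc.1
    have cjb : Commute (pt jR) (pt b) := pt_commute_iff.2 hb.2.2
    have cjc : Commute (pt jR) (pt c) := pt_commute_iff.2 hc.2.2
    have cbc : Commute (pt b) (pt c) := pt_commute_iff.2 hbc
    have hf : Facs (conjugatesOf s24) 4 (pe (jR * b * c)) := by
      refine ⟨[s24, pt jR, pt b, pt c], ?_, rfl, ?_, ?_, ?_⟩
      · simp [hsj.2.1.symm, hbS.2.1.symm, hcS.2.1.symm, pt_injective.eq_iff, hb.2.1.symm, hc.2.1.symm, hne]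
      · simpa using ⟨IsConj.refl _, hsj.1, hbS.1, hcS.1⟩
      · simp only [List.mem_cons, List.not_mem_nil, or_false, forall_eq_or_imp, forall_eq]
        exact ⟨⟨Commute.refl _, hsj.2.2, hbS.2.2, hcS.2.2⟩, ⟨hsj.2.2.symm, Commute.refl _, cjb, cjc⟩,
          ⟨hbS.2.2.symm, cjb.symm, Commute.refl _, cbc⟩, ⟨hcS.2.2.symm, cjc.symm, cbc.symm, Commute.refl _⟩⟩
      · rw [map_mul, map_mul, pe_eq, pe_eq, pe_eq]
        simp only [List.prod_cons, List.prod_nil, mul_one]
        calc s24 * (pt jR * (pt b * pt c)) = s24 * pt jR * (s24 * s24 * pt b) * pt c := by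
              rw [Coset.Fi24.s_sq, one_mul]; group
          _ = s24 * pt jR * (s24 * (pt b * s24)) * pt c := by rw [← hbS.2.2.eq, mul_assoc s24 s24]
          _ = s24 * pt jR * (s24 * pt b) * (s24 * pt c) := by group
    obtain ⟨g, hg, e⟩ := fin (jR * b * c) (by
        have e := (hb.2.2.mul_right hc.2.2).symm.mul_mul_mul_comm jR (b * c)
        calc jR * b * c * (jR * b * c) = jR * (b * c) * (jR * (b * c)) := by group
          _ = 1 := by
            rw [e, DR_sq jR_mem, one_mul, hbc.symm.mul_mul_mul_comm b c, DR_sq hb.1, DR_sq hc.1, one_mul])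
      hf
    exact ⟨g, hg, Or.inr e⟩

variable {G : Type*} [Group G] [Finite G] {z : G} {Q : Subgroup (centralizer ({z} : Set G))} [Q.Normal]
  {D : Dat z Q} (X : Ctx D)

local notation "NA" => normalizer (A0 D : Set G)

theorem isConj_lab {p q : Cfsg.GolayPt} (hpq : p ≠ q) : IsConj (tt X) (X.L.lab p q) := by
  classical
  obtain ⟨r, -, hr⟩ := Finset.exists_mem_notMem_of_card_lt_card
    (show ({p, q} : Finset Cfsg.GolayPt).card < (Finset.univ : Finset Cfsg.GolayPt).card from
      lt_of_le_of_lt Finset.card_le_two (by rw [Finset.card_univ, Golay.card_golayPt]; norm_num))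
  simp only [Finset.mem_insert, Finset.mem_singleton, not_or] at hr
  obtain ⟨n, h1, h2, -⟩ := exists_three X abc_ne.1 abc_ne.2.1 abc_ne.2.2 hpq (Ne.symm hr.2) (Ne.symm hr.1)
  exact isConj_iff.2 ⟨(n : G), by rw [show tt X = X.L.lab ptA ptB from rfl, X.L.conj, h1, h2]⟩

include X in
theorem iso : Cfsg.Spor.IsoFi24' G := by
  classical
  obtain ⟨F, hj, hM, hon⟩ := exists_flag X
  obtain ⟨r, hr, ha, hinv⟩ := F.exists_r
  obtain ⟨f, hz, w, hw, hwt, hws⟩ := exists_hom F.th r hr ha hinv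
  haveI := finite23
  haveI := Coset.Fi24.Schur.finite_G0
  haveI := Coset.Fi24.isSimple
  have hth : ∀ t, F.th t ∈ f.range := fun t => let ⟨v, hv, _⟩ := hz t; ⟨v, hv⟩
  have hperf : commutator ↥D0 = ⊤ := by
    obtain ⟨hs, -, hle⟩ := Coset.Fi24.Schur.isStem
    refine eq_top_iff.2 fun v _ => ?_
    obtain ⟨c, hc, e⟩ : σ0 v ∈ (commutator ↥D0).map σ0 := by
      rw [_root_.commutator_def ↥D0, Subgroup.map_commutator, Subgroup.map_top_of_surjective _ hs, ← _root_.commutator_def,
        Coset.Fi24.Schur.commutator_simple]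
      exact mem_top _
    have h : c⁻¹ * v ∈ commutator ↥D0 := hle (by rw [MonoidHom.mem_ker, map_mul, map_inv, e, inv_mul_cancel])
    simpa using mul_mem hc h
  have hker : f.ker ≤ σ0.ker := by
    obtain ⟨hs, hcen, -⟩ := Coset.Fi24.Schur.isStem
    rcases ((inferInstance : f.ker.Normal).map σ0 hs).eq_bot_or_eq_top with h | h
    · exact fun v hv => MonoidHom.mem_ker.2 ((Subgroup.eq_bot_iff_forall _).1 h _ (mem_map_of_mem σ0 hv))
    exfalso
    have hall : (⊤ : Subgroup ↥D0) ≤ f.ker := by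
      rw [← hperf, _root_.commutator_def, Subgroup.commutator_le]
      intro a _ b _
      obtain ⟨a', ha', ea⟩ : σ0 a ∈ f.ker.map σ0 := h ▸ mem_top _
      obtain ⟨b', hb', eb⟩ : σ0 b ∈ f.ker.map σ0 := h ▸ mem_top _
      have hca : a'⁻¹ * a ∈ Subgroup.center ↥D0 := hcen (by rw [MonoidHom.mem_ker, map_mul, map_inv, ea, inv_mul_cancel])
      have hfa : f a = f (a'⁻¹ * a) := by rw [map_mul, map_inv, MonoidHom.mem_ker.1 ha', inv_one, one_mul]
      rw [MonoidHom.mem_ker, map_commutatorElement, hfa, ← map_commutatorElement,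
        commutatorElement_eq_one_iff_mul_comm.2 (Subgroup.mem_center_iff.1 hca b).symm, map_one]
    obtain ⟨v, hv, -⟩ := hz jR
    exact tt_ne X (by rw [← hj, ← hv, MonoidHom.mem_ker.1 (hall (mem_top v))])
  -- the centraliser of the small involution
  have hM1 : M1 X ≤ f.range := by rw [← hM]; rintro _ ⟨t, -, rfl⟩; exact hth t
  obtain ⟨q, hq⟩ := exists_conj_to (zl_mem 0 (by norm_num)) jR_mem
  set h' := F.th q * f w * (F.th q)⁻¹ with hh'
  have hh'H : h' ∈ f.range := mul_mem (mul_mem (hth q) ⟨w, rfl⟩) (inv_mem (hth q))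
  have hh'M : h' ∈ Mt X := by
    refine (mem_Mt X).2 ?_
    rw [← hj, ← hq, F.th_conj]
    exact (commute_conj_iff _ _ _).2 hwt.symm
  have hh'1 : h' ∉ M1 X := by
    rw [← hM]
    rintro ⟨c, hc, e⟩
    rw [SetLike.mem_coe, mem_centralizer_singleton_iff] at hc
    obtain ⟨v, hv, hvπ⟩ := hz (q⁻¹ * c * q)
    have hfw : f w = f v := by
      rw [hv, map_mul, map_mul, map_inv, e, hh']; group
    have hk : w * v⁻¹ ∈ σ0.ker := hker (by rw [MonoidHom.mem_ker, map_mul, map_inv, hfw, mul_inv_cancel])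
    have hπ : π0 (w : Coset.Fi24.G0) = π0 (v : Coset.Fi24.G0) := by
      have h := congrArg Subtype.val (MonoidHom.mem_ker.1 hk)
      change π0 ((w * v⁻¹ : ↥D0) : Coset.Fi24.G0) = 1 at h
      rwa [Subgroup.coe_mul, Subgroup.coe_inv, map_mul, map_inv, mul_inv_eq_one] at h
    exact hws (by rw [hπ, hvπ]; exact pe_comm _)
  have hMt : Mt X ≤ f.range := by
    intro g hg
    have e : Cent.eps X ⟨h', hh'M⟩ = -1 :=
      (Int.units_eq_one_or _).resolve_left fun e => hh'1 ((mem_M1 X).2 ⟨hh'M, e⟩)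
    rcases Int.units_eq_one_or (Cent.eps X ⟨g, hg⟩) with e' | e'
    · exact hM1 ((mem_M1 X).2 ⟨hg, e'⟩)
    · have h2 : h'⁻¹ * g ∈ M1 X := (mem_M1 X).2 ⟨mul_mem (inv_mem hh'M) hg, by
        rw [show (⟨h'⁻¹ * g, mul_mem (inv_mem hh'M) hg⟩ : ↥(Mt X)) = (⟨h', hh'M⟩ : ↥(Mt X))⁻¹ * ⟨g, hg⟩ from rfl,
          map_mul, map_inv, e, e']
        decide⟩
      simpa using mul_mem hh'H (hM1 h2)
  -- the two classes
  obtain ⟨n1, n2, n3⟩ := abc_ne
  obtain ⟨p, pA, pB, pC⟩ := exists_other
  obtain ⟨b, hb, eb⟩ := hon _ (ee_NJ X)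
  obtain ⟨c, hc, ec⟩ := hon _ (lb_NJ X pA pB)
  have hne : b ≠ c := fun e => lb_ne_ee X pA pB pC (by rw [← ec, ← eb, e])
  have hbc : Commute b c := F.th_commute_iff.1 (by rw [eb, ec]; exact lb_comm X ptC p)
  set z' := F.th (jR * b * c) with hz'
  have hzz' : IsConj z z' := by
    have e : z' = X.L.lab ptA ptC * X.L.lab ptB p := by rw [hz', map_mul, map_mul, hj, eb, ec, tee]
    rw [e]
    exact X.four_z (by simp [Finset.card_insert_of_notMem, n1, n2.symm, n3, pA.symm, pB.symm, pC.symm])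
  have htz : ¬ IsConj z (tt X) := X.not_z X.ab_E (tt_ne X)
  have zsq : z * z = 1 := z_sq D
  have classes : ∀ u ∈ f.range, u * u = 1 → u ≠ 1 →
      ∃ k ∈ f.range, k * tt X * k⁻¹ = u ∨ k * z' * k⁻¹ = u := by
    intro u hu h2 h1
    obtain ⟨g, hg, e⟩ := invol_rep f F.th hz hb hc hbc hne hker hu h2 h1
    refine ⟨g⁻¹, inv_mem hg, ?_⟩
    rcases e with e | e
    · left; rw [← hj, ← e]; group
    · right; rw [hz', ← e]; group
  -- conjugates of the small involution in the image
  have tconj : ∀ g, g * tt X * g⁻¹ ∈ f.range → g ∈ f.range := by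
    intro g hg
    obtain ⟨k, hk, e | e⟩ := classes _ hg
      (by rw [show g * tt X * g⁻¹ * (g * tt X * g⁻¹) = g * (tt X * tt X) * g⁻¹ by group, tt_sq]; group)
      (fun q => tt_ne X (conj_eq_one_iff.1 q))
    · have : k⁻¹ * g ∈ Mt X := (mem_Mt X).2 (by
        show k⁻¹ * g * tt X = tt X * (k⁻¹ * g)
        calc k⁻¹ * g * tt X = k⁻¹ * (g * tt X * g⁻¹) * g := by group
          _ = tt X * (k⁻¹ * g) := by rw [← e]; group)
      simpa using mul_mem hk (hMt this)
    · exact absurd ((hzz'.trans (isConj_iff.2 ⟨k, e⟩)).trans (isConj_iff.2 ⟨g⁻¹, by group⟩)) htz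
  have tcent : ∀ v ∈ f.range, IsConj (tt X) v → ∀ x, Commute x v → x ∈ f.range := by
    intro v hv hc x hx
    obtain ⟨g, rfl⟩ := isConj_iff.1 hc
    have hg := tconj g hv
    have : g⁻¹ * x * g ∈ Mt X := (mem_Mt X).2 (by
      rw [← commute_conj_iff g, show g * (g⁻¹ * x * g) * g⁻¹ = x by group]; exact hx)
    have := mul_mem (mul_mem hg (hMt this)) (inv_mem hg)
    rwa [show g * (g⁻¹ * x * g) * g⁻¹ = x by group] at this
  -- the centraliser of the centre
  have gen := D.pre.gen
  have httQ : tt X ∈ Q.map (Subgroup.subtype (centralizer ({z} : Set G))) := X.E_le_Q X.ab_E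
  have heeQ : ee X ∈ Q.map (Subgroup.subtype (centralizer ({z} : Set G))) := X.E_le_Q X.bc_E
  have hQH : Q.map (Subgroup.subtype (centralizer ({z} : Set G))) ≤ f.range := by
    intro x hx
    have cm : ∀ y ∈ Q.map (Subgroup.subtype (centralizer ({z} : Set G))), Commute x y ∨ x * y = z * (y * x) := by
      intro y hy
      rcases gen.comm x hx y hy with e | e
      · left
        show x * y = y * x
        calc x * y = x * y * x⁻¹ * y⁻¹ * (y * x) := by group
          _ = y * x := by rw [e, one_mul]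
      · right
        calc x * y = x * y * x⁻¹ * y⁻¹ * (y * x) := by group
          _ = _ := by rw [e]
    rcases cm _ httQ with h1 | h1
    · exact hMt ((mem_Mt X).2 h1)
    rcases cm _ heeQ with h2 | h2
    · exact tcent _ (hM1 (ee_M1 X)) (isConj_lab X n2) x h2
    have h3 : Commute x (X.L.lab ptA ptC) := by
      show x * _ = _
      rw [← tee X]
      have hzt := gen.comm_z _ httQ
      calc x * (tt X * ee X) = x * tt X * ee X := by group
        _ = z * (tt X * (x * ee X)) := by rw [h1]; group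
        _ = z * (tt X * z) * (ee X * x) := by rw [h2]; group
        _ = z * z * (tt X * (ee X * x)) := by rw [hzt.eq]; group
        _ = tt X * ee X * x := by rw [zsq, one_mul, mul_assoc]
    refine tcent _ ?_ (isConj_lab X n3) x h3
    rw [← tee X]
    exact hM1 (mul_mem (tt_M1 X) (ee_M1 X))
  have hzH : z ∈ f.range := hQH gen.mem
  have hCz : ∀ x, Commute x z → x ∈ f.range := by
    intro x hx
    refine tconj x (hQH ?_)
    exact (mem_normalizer_iff.1 (D.pre.norm (mem_centralizer_singleton_iff.2 hx.eq)) (tt X)).1 httQ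
  have zcent : ∀ v ∈ f.range, IsConj z v → ∀ x, Commute x v → x ∈ f.range := by
    intro v hv hc x hx
    obtain ⟨k0, hk0, e0 | e0⟩ := classes z hzH zsq (z_ne D)
    · exact absurd (isConj_iff.2 ⟨k0, e0⟩).symm htz
    obtain ⟨k, hk, e | e⟩ := classes v hv (by
      obtain ⟨g, rfl⟩ := isConj_iff.1 hc
      rw [show g * z * g⁻¹ * (g * z * g⁻¹) = g * (z * z) * g⁻¹ by group, zsq]; group)
      (fun q => z_ne D (isConj_one_left.1 (q ▸ hc)))
    · exact absurd (hc.trans (isConj_iff.2 ⟨k, e⟩).symm) htz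
    set g := k * k0⁻¹
    have hg : g ∈ f.range := mul_mem hk (inv_mem hk0)
    have eg : g * z * g⁻¹ = v := by
      rw [← e]; simp only [g]; rw [show k * k0⁻¹ * z * (k * k0⁻¹)⁻¹ = k * (k0⁻¹ * z * k0) * k⁻¹ by group,
        show k0⁻¹ * z * k0 = z' by rw [← e0]; group]
    have := hCz (g⁻¹ * x * g) (by
      rw [← commute_conj_iff g, show g * (g⁻¹ * x * g) * g⁻¹ = x by group, eg]; exact hx)
    have := mul_mem (mul_mem hg this) (inv_mem hg)
    rwa [show g * (g⁻¹ * x * g) * g⁻¹ = x by group] at this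
  -- the whole group
  have htop : f.range = ⊤ := by
    refine eq_top_iff.2 fun g _ => tconj g ?_
    set y := g * tt X * g⁻¹ with hy
    have hy2 : y * y = 1 := by
      rw [hy, show g * tt X * g⁻¹ * (g * tt X * g⁻¹) = g * (tt X * tt X) * g⁻¹ by group, tt_sq]; group
    have zi : z⁻¹ = z := inv_eq_of_mul_eq_one_right zsq
    have yi : y⁻¹ = y := inv_eq_of_mul_eq_one_right hy2
    set a := z * y with hadef
    have hza : ∀ n : ℕ, z * a ^ n * z = (a ^ n)⁻¹ := fun n => by
      have e1 : z * a * z⁻¹ = a⁻¹ := by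
        rw [hadef, mul_inv_rev, yi, ← mul_assoc z z y, zsq, one_mul]
      calc z * a ^ n * z = (z * a * z⁻¹) ^ n := by rw [conj_pow, zi]
        _ = (a ^ n)⁻¹ := by rw [e1, inv_pow]
    rcases Nat.even_or_odd (orderOf a) with ⟨m, hm⟩ | ⟨m, hm⟩
    · set i := a ^ m with hi
      have hi2 : i * i = 1 := by rw [hi, ← pow_add, ← hm, pow_orderOf_eq_one]
      have hi1 : i ≠ 1 := fun e => by
        have h0 := orderOf_pos a
        have := Nat.le_of_dvd (by omega) (orderOf_dvd_of_pow_eq_one e)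
        omega
      have ciz : Commute i z := by
        have h := hza m
        rw [← hi, inv_eq_of_mul_eq_one_right hi2] at h
        show i * z = z * i
        calc i * z = z * i * z * z := by rw [h]
          _ = z * i := by rw [mul_assoc, zsq, mul_one]
      have ciy : Commute i y := by
        have hcia : Commute i a := (Commute.refl a).pow_left m
        have : y = z * a := by rw [hadef, ← mul_assoc, zsq, one_mul]
        rw [this]
        exact ciz.mul_right hcia
      have hiH : i ∈ f.range := hCz i ciz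
      obtain ⟨k, hk, e | e⟩ := classes i hiH hi2 hi1
      · exact tcent i hiH (isConj_iff.2 ⟨k, e⟩) y ciy.symm
      · exact zcent i hiH (hzz'.trans (isConj_iff.2 ⟨k, e⟩)) y ciy.symm
    · exfalso
      refine htz ((isConj_iff.2 ⟨a ^ m, ?_⟩ : IsConj z y).trans (isConj_iff.2 ⟨g⁻¹, by rw [hy]; group⟩))
      have e1 : a ^ m * a ^ m = a⁻¹ := by
        refine eq_inv_of_mul_eq_one_left ?_
        rw [← pow_add, ← pow_succ, show m + m + 1 = orderOf a by omega, pow_orderOf_eq_one]
      have e2 : z * (a ^ m)⁻¹ = a ^ m * z := by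
        rw [← hza, show z * (z * a ^ m * z) = (z * z) * (a ^ m * z) by group, zsq, one_mul]
      calc a ^ m * z * (a ^ m)⁻¹ = a ^ m * (a ^ m * z) := by rw [mul_assoc, e2]
        _ = a⁻¹ * z := by rw [← mul_assoc, e1]
        _ = y := by rw [hadef, mul_inv_rev, yi, zi, mul_assoc, zsq, mul_one]
  have hsurj : Function.Surjective f := MonoidHom.range_eq_top.1 htop
  have hker2 : σ0.ker ≤ f.ker := by
    intro k hk
    rw [MonoidHom.mem_ker]
    set u := f k with hu
    have h3 : u ^ 3 = 1 := by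
      have h := pow_card_eq_one' (G := ↥σ0.ker) (x := ⟨k, hk⟩)
      rw [Coset.Fi24.Schur.card_ker_σ0] at h
      rw [hu, ← map_pow, show k ^ 3 = 1 from congrArg Subtype.val h, map_one]
    have hcom : ∀ x, Commute u x := fun x => by
      obtain ⟨v, rfl⟩ := hsurj x
      exact (show Commute k v from (Subgroup.mem_center_iff.1 (Coset.Fi24.Schur.isStem.2.1 hk) v).symm).map f
    have huM : u ∈ Mt X := (mem_Mt X).2 (hcom _)
    have hu1 : u ∈ M1 X := (mem_M1 X).2 ⟨huM, by
      have h := congrArg (fun v => Cent.eps X v) (show (⟨u, huM⟩ : ↥(Mt X)) ^ 3 = 1 from Subtype.ext h3)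
      simp only [map_pow, map_one] at h
      rcases Int.units_eq_one_or (Cent.eps X ⟨u, huM⟩) with e | e
      · exact e
      · rw [e] at h; exact absurd h (by decide)⟩
    have hc1 : (⟨u, hu1⟩ : ↥(M1 X)) ∈ Subgroup.center ↥(M1 X) := mem_center_iff.2 fun x => Subtype.ext (hcom x).eq.symm
    rw [(M1_quasisimple X).2.1] at hc1
    rcases (zpowers_tt X).1 (mem_subgroupOf.1 hc1) with e | e
    · exact e
    · change u = tt X at e
      rw [e, pow_succ, pow_two, tt_sq, one_mul] at h3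
      exact absurd h3 (tt_ne X)
  exact ⟨((QuotientGroup.quotientKerEquivOfSurjective f hsurj).symm.trans
    (QuotientGroup.quotientMulEquivOfEq (le_antisymm hker hker2))).trans
      (QuotientGroup.quotientKerEquivOfSurjective σ0 Coset.Fi24.Schur.σ0_surjective)⟩

end CfsgLib.FiLarge.Iso
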