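import Cfsg.Agent.FiLarge.Aut.Full
import Cfsg.Agent.FiLarge.Aut.Perm
import Cfsg.Agent.FiLarge.AutM24.Known23
import Cfsg.Agent.DoubleM22.Cover
import Cfsg.Agent.TC22.Setup
import Cfsg.Agent.Spor3T.M23Iso
import Cfsg.Agent.Coset.FischerTypes
import Cfsg.Agent.Coset.PrimConj

/-!
The even part of the centraliser of a small involution as a double cover of a group of type M(22): the conjugates of
the second small involution form a closed set of 3-transpositions with the local conditions of type M(22).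
-/

set_option autoImplicit false
set_option linter.style.haveILetI false
set_option linter.unusedSectionVars false
set_option maxRecDepth 100000

namespace CfsgLib.FiLarge.Iso

open CfsgLib Subgroup CfsgLib.ThreeT CfsgLib.ThreeT.Prod CfsgLib.FiLarge.Thom CfsgLib.FiLarge.U62 CfsgLib.FiLarge.Cent
open CfsgLib.Fischer (Closed SIso)

variable {G : Type*} [Group G] [Finite G] {z : G} {Q : Subgroup (centralizer ({z} : Set G))} [Q.Normal]
  {D : Dat z Q} (X : Ctx D)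

/-- The class in the quotient. -/
abbrev EQ : Set (↥(M1 X) ⧸ Z1 X) := conjugatesOf (de X)

theorem normal_zpow : ((zpowers (de X)).subgroupOf (centralizer ({de X} : Set (↥(M1 X) ⧸ Z1 X)))).Normal :=
  ⟨fun n hn k => by
    obtain ⟨i, hi⟩ := mem_zpowers_iff.1 (mem_subgroupOf.1 hn)
    have e' : k * n * k⁻¹ = n := by
      refine Subtype.ext ?_
      show (k : ↥(M1 X) ⧸ Z1 X) * n * (k : ↥(M1 X) ⧸ Z1 X)⁻¹ = n
      rw [← hi]
      exact mul_inv_eq_iff_eq_mul.2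
        ((show Commute (k : ↥(M1 X) ⧸ Z1 X) (de X) from mem_centralizer_singleton_iff.1 k.2).zpow_right i).eq
    rw [e']; exact hn⟩

theorem type_EQ : Cfsg.IsThreeTranspositionGroup (EQ X) ∧ Cfsg.IsPrimitiveUnderConj (EQ X) ∧
    Cfsg.IsOfTypeM22 (↥(M1 X) ⧸ Z1 X) (EQ X) := by
  classical
  obtain ⟨hn, K, _, _, hK, ⟨e⟩⟩ := X.exists_iso
  haveI : CharP K 2 := charP_of_card_eq_prime_pow (f := 2) (by rw [hK]; rfl)
  have hF : Nat.card K = 2 ^ 2 := by rw [Nat.card_eq_fintype_card, hK]; rfl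
  obtain ⟨ω, -, -, hω⟩ := CfsgLib.ThreeT.SixTwo.exists_omega hF
  haveI := normal_zpow X
  let ψ := (QuotientGroup.mk' ((zpowers (de X)).subgroupOf (centralizer ({de X} : Set (↥(M1 X) ⧸ Z1 X))))).comp
    (cmap X)
  have hψ : ψ.ker = X.E.subgroupOf X.C := by
    rw [← MonoidHom.comap_ker, QuotientGroup.ker_mk', de_preimage]
  have e' := ((QuotientGroup.quotientKerEquivOfSurjective ψ
    ((QuotientGroup.mk'_surjective _).comp (cmap_surj X))).symm.trans (QuotientGroup.quotientMulEquivOfEq hψ)).trans e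
  obtain ⟨T⟩ := CfsgLib.TC22.exists_setup (orderOf_de X) (de_quasisimple X) e' (de_other X)
  exact ⟨T.isGroup hF hω, T.primitive hF hω, T.isTypeM22 hF hω⟩

theorem geo_EQ : Geo22 (EQ X) := geo22 (type_EQ X).1 (type_EQ X).2.1 (type_EQ X).2.2

/-- The double cover. -/
noncomputable def cov : DoubleM22.Cover (EQ X) ↥(M1 X) where
  ψ := QuotientGroup.mk' (Z1 X)
  surj := QuotientGroup.mk'_surjective _
  z := ⟨tt X, tt_M1 X⟩
  z_ne := fun e => ((mem_nS D).1 (X.L.mem _ _ abc_ne.1)).2.1 (congrArg Subtype.val e)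
  ker_iff := fun x => by
    rw [QuotientGroup.mk'_apply, QuotientGroup.eq_one_iff, mem_subgroupOf, zpowers_tt]
    exact ⟨fun h => h.imp (fun e => Subtype.ext e) (fun e => Subtype.ext e),
      fun h => h.imp (congrArg Subtype.val) (congrArg Subtype.val)⟩
  central := fun x => Subtype.ext ((mem_Mt X).1 (M1_le X x.2)).eq.symm
  perfect := (M1_quasisimple X).1.1.commutator_eq_top
  geo := geo_EQ X
  prim := (type_EQ X).2.1
  type22 := (type_EQ X).2.2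

theorem tt_ne : tt X ≠ 1 := ((mem_nS D).1 (X.L.mem _ _ abc_ne.1)).2.1

theorem tt_sq : tt X * tt X = 1 := X.lab_mul_self _ _

theorem conj_M1 {g k : G} (hg : g ∈ Mt X) (hk : k ∈ M1 X) : g * k * g⁻¹ ∈ M1 X := by
  haveI : ((M1 X).subgroupOf (Mt X)).Normal := normal_of_index_eq_two (index_M1 X)
  exact (inferInstance : ((M1 X).subgroupOf (Mt X)).Normal).conj_mem ⟨k, M1_le X hk⟩ hk ⟨g, hg⟩

/-- The conjugates of the second small involution under the even part. -/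
def NJ : Set G := {x | ∃ m ∈ M1 X, m * ee X * m⁻¹ = x}

theorem ee_NJ : ee X ∈ NJ X := ⟨1, one_mem _, by group⟩

theorem NJ_M1 {x : G} (hx : x ∈ NJ X) : x ∈ M1 X := by
  obtain ⟨m, hm, rfl⟩ := hx
  exact mul_mem (mul_mem hm (ee_M1 X)) (inv_mem hm)

theorem NJ_conj {x m : G} (hm : m ∈ M1 X) (hx : x ∈ NJ X) : m * x * m⁻¹ ∈ NJ X := by
  obtain ⟨k, hk, rfl⟩ := hx
  exact ⟨m * k, mul_mem hm hk, by group⟩

theorem NJ_tt {x : G} (hx : x ∈ NJ X) : Commute x (tt X) := (mem_Mt X).1 (M1_le X (NJ_M1 X hx))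

/-- The image in the quotient. -/
noncomputable def qj (x : G) : ↥(M1 X) ⧸ Z1 X :=
  open Classical in if h : x ∈ M1 X then QuotientGroup.mk' (Z1 X) ⟨x, h⟩ else 1

theorem qj_eq {x : G} (h : x ∈ M1 X) : qj X x = QuotientGroup.mk' (Z1 X) ⟨x, h⟩ := by
  classical
  exact dif_pos h

theorem qj_mul {x y : G} (hx : x ∈ M1 X) (hy : y ∈ M1 X) : qj X (x * y) = qj X x * qj X y := by
  rw [qj_eq X hx, qj_eq X hy, qj_eq X (mul_mem hx hy), ← map_mul]; rfl

theorem qj_ee : qj X (ee X) = de X := qj_eq X (ee_M1 X)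

theorem qj_conj {m : G} (hm : m ∈ M1 X) {x : G} (hx : x ∈ M1 X) :
    qj X (m * x * m⁻¹) = qj X m * qj X x * (qj X m)⁻¹ := by
  rw [qj_eq X hm, qj_eq X hx, qj_eq X (mul_mem (mul_mem hm hx) (inv_mem hm)), ← map_inv, ← map_mul, ← map_mul]
  rfl

theorem qj_mem {x : G} (hx : x ∈ NJ X) : qj X x ∈ EQ X := by
  obtain ⟨m, hm, rfl⟩ := hx
  rw [qj_conj X hm (ee_M1 X), qj_ee]
  exact isConj_iff.2 ⟨_, rfl⟩

theorem qj_bij : Set.BijOn (qj X) (NJ X) (EQ X) := by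
  refine ⟨fun x hx => qj_mem X hx, ?_, ?_⟩
  · rintro _ ⟨m, hm, rfl⟩ _ ⟨m', hm', rfl⟩ e
    rw [qj_conj X hm (ee_M1 X), qj_conj X hm' (ee_M1 X), qj_ee] at e
    have hc : Commute (QuotientGroup.mk' (Z1 X) (⟨m', hm'⟩⁻¹ * ⟨m, hm⟩ : ↥(M1 X))) (de X) := by
      rw [map_mul, map_inv, ← qj_eq X hm, ← qj_eq X hm']
      show (qj X m')⁻¹ * qj X m * de X = de X * ((qj X m')⁻¹ * qj X m)
      calc (qj X m')⁻¹ * qj X m * de X = (qj X m')⁻¹ * (qj X m * de X * (qj X m)⁻¹) * qj X m := by group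
        _ = de X * ((qj X m')⁻¹ * qj X m) := by rw [e]; group
    have h : Commute (m'⁻¹ * m) (ee X) := X.C_comm (de_comm X hc) X.bc_E
    calc m * ee X * m⁻¹ = m' * ((m'⁻¹ * m) * ee X * (m'⁻¹ * m)⁻¹) * m'⁻¹ := by group
      _ = m' * ee X * m'⁻¹ := by rw [h.eq, mul_inv_cancel_right]
  · intro q hq
    obtain ⟨g, rfl⟩ := isConj_iff.1 hq
    obtain ⟨⟨m, hm⟩, rfl⟩ := QuotientGroup.mk'_surjective (Z1 X) g
    exact ⟨m * ee X * m⁻¹, ⟨m, hm, rfl⟩, by rw [qj_conj X hm (ee_M1 X), qj_ee, qj_eq X hm]⟩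

theorem qj_tt : qj X (tt X) = 1 := by
  rw [qj_eq X (tt_M1 X)]
  exact (QuotientGroup.eq_one_iff _).2 (mem_subgroupOf.2 (mem_zpowers _))

theorem NJ_ne_tt {x : G} (hx : x ∈ NJ X) : x ≠ tt X := fun e =>
  (geo_EQ X).ne_one _ (qj_mem X hx) (e ▸ qj_tt X)

theorem NJ_sq {x : G} (hx : x ∈ NJ X) : x * x = 1 := by
  obtain ⟨m, -, rfl⟩ := hx
  rw [show m * ee X * m⁻¹ * (m * ee X * m⁻¹) = m * (ee X * ee X) * m⁻¹ by group, X.lab_mul_self]
  group

theorem NJ_inv {x : G} (hx : x ∈ NJ X) : x⁻¹ = x := inv_eq_of_mul_eq_one_right (NJ_sq X hx)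

theorem NJ_ne_one {x : G} (hx : x ∈ NJ X) : x ≠ 1 := fun e =>
  (geo_EQ X).ne_one _ (qj_mem X hx) (by rw [e, qj_eq X (one_mem _)]; exact map_one _)

theorem qj_commute {x y : G} (hx : x ∈ NJ X) (hy : y ∈ NJ X) : Commute (qj X x) (qj X y) ↔ Commute x y := by
  have hx1 := qj_mem X hx
  have hy1 := qj_mem X hy
  rw [qj_eq X (NJ_M1 X hx)] at hx1 ⊢
  rw [qj_eq X (NJ_M1 X hy)] at hy1 ⊢
  refine ⟨fun h => ?_, fun h => (show Commute (⟨x, NJ_M1 X hx⟩ : ↥(M1 X)) ⟨y, NJ_M1 X hy⟩ from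
    Subtype.ext h.eq).map _⟩
  exact congrArg Subtype.val ((DoubleM22.Cover.lift_comm_and_sq (cov X)).1 (y := ⟨x, NJ_M1 X hx⟩) (z := ⟨y, NJ_M1 X hy⟩)
    hx1 hy1 h).eq

theorem NJ_pair {x y : G} (hx : x ∈ NJ X) (hy : y ∈ NJ X) : (x * y) ^ 2 = 1 ∨ (x * y) ^ 3 = 1 := by
  by_cases hc : Commute x y
  · left
    rw [hc.mul_pow, pow_two, pow_two, NJ_sq X hx, NJ_sq X hy, one_mul]
  right
  have hb := braid0 (geo_EQ X).tt (qj_mem X hx) (qj_mem X hy) fun q => hc ((qj_commute X hx hy).1 q)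
  have h1 : x * y * x ∈ NJ X := by simpa [NJ_inv X hx] using NJ_conj X (NJ_M1 X hx) hy
  have h2 : y * x * y ∈ NJ X := by simpa [NJ_inv X hy] using NJ_conj X (NJ_M1 X hy) hx
  have e : x * y * x = y * x * y := (qj_bij X).injOn h1 h2 (by
    rw [qj_mul X (mul_mem (NJ_M1 X hx) (NJ_M1 X hy)) (NJ_M1 X hx), qj_mul X (NJ_M1 X hx) (NJ_M1 X hy),
      qj_mul X (mul_mem (NJ_M1 X hy) (NJ_M1 X hx)) (NJ_M1 X hy), qj_mul X (NJ_M1 X hy) (NJ_M1 X hx), hb])
  calc (x * y) ^ 3 = (x * y * x) * (y * x * y) := by rw [pow_succ, pow_two]; group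
    _ = (y * x * y) * (y * x * y) := by rw [e]
    _ = 1 := NJ_sq X h2

theorem NJ_closed : Closed (NJ X) :=
  ⟨⟨fun x hx => orderOf_eq_prime (by rw [pow_two, NJ_sq X hx]) (NJ_ne_one X hx), fun x hx y hy => NJ_pair X hx hy⟩,
    fun x hx y hy => by simpa [NJ_inv X hx] using NJ_conj X (NJ_M1 X hx) hy⟩

theorem qj_iso : SIso (NJ X) (EQ X) (qj X) :=
  ⟨qj_bij X, fun x hx y hy => qj_commute X hx hy, fun x hx y hy => by
    rw [qj_mul X (mul_mem (NJ_M1 X hx) (NJ_M1 X hy)) (NJ_M1 X hx), qj_mul X (NJ_M1 X hx) (NJ_M1 X hy)]⟩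

theorem NJ_nb_card {a : G} (ha : a ∈ NJ X) : (nb (NJ X) a).ncard = 693 :=
  ((qj_iso X).nb ha).bij.ncard_eq.trans ((geo_EQ X).loc _ (qj_mem X ha)).card_nb

/-- The local conditions of type M(22), from a class of type M(23). -/
theorem t22_EQ : Fischer.T22 (EQ X) := by
  haveI : Finite Cfsg.Spor.Fi23 := Coset.Fi23.card_le.1
  obtain ⟨h23, hprim, htype⟩ : ∃ S : Set Cfsg.Spor.Fi23, Cfsg.IsThreeTranspositionGroup S ∧
      Cfsg.IsPrimitiveUnderConj S ∧ Cfsg.IsOfTypeM23 Cfsg.Spor.Fi23 S :=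
    ⟨conjugatesOf Coset.Fi23.t, ⟨Coset.Fi23.threeTransp.1,
        fun g x hx => IsConj.trans (show IsConj Coset.Fi23.t x from hx) (isConj_iff.2 ⟨g, rfl⟩),
        Coset.Fi23.threeTransp.2.2⟩, by
      obtain ⟨g, -, hg⟩ := Coset.FischerTypes.nwc23
      exact Coset.primitive_of_isCoatom (isConj_iff.2 ⟨g, rfl⟩) hg
        (Coset.Fi23.centralizer_t.symm ▸ Coset.Fi23.H_isCoatom), Coset.FischerTypes.type23⟩
  obtain ⟨d, hd, hI, hI2, hI3⟩ := img_prim (base23 hprim htype.1 htype.2) htype.2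
  have P : Point23 h23 d := ⟨hd, base23 hprim htype.1 htype.2, refl23 htype.2, geo22 hI hI2 hI3, hI2, hI3⟩
  have hT := P.base.tt
  have hloc : Fischer.T22 (nb h23 d) := (AutM24.t23_of_type hprim htype.1 htype.2).1 d P.mem
  obtain ⟨e1, he1⟩ := exists_iso_fi22 hI hI2 hI3
  obtain ⟨e2, he2⟩ := exists_iso_fi22 (type_EQ X).1 (type_EQ X).2.1 (type_EQ X).2.2
  let ε := e2.symm.trans e1
  have hε : SIso (EQ X) (img h23 d) ε := by
    refine ⟨⟨fun y hy => ?_, ε.injective.injOn, fun y hy => ?_⟩, fun x _ y _ => ⟨fun q => ?_, fun q => q.map ε⟩,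
      fun x _ y _ => by rw [map_mul, map_mul]⟩
    · obtain ⟨u, hu, rfl⟩ := he2.symm.subset hy
      exact he1.subset ⟨u, hu, by simp [ε]⟩
    · obtain ⟨u, hu, rfl⟩ := he1.symm.subset hy
      exact ⟨e2 u, he2.subset ⟨u, hu, rfl⟩, by simp [ε]⟩
    · have := q.map ε.symm
      rwa [ε.symm_apply_apply, ε.symm_apply_apply] at this
  let π : Cfsg.Spor.Fi23 → ↥(hsub h23 d) ⧸ Subgroup.center ↥(hsub h23 d) := fun y =>
    open Classical in if h : y ∈ nb h23 d then QuotientGroup.mk ⟨y, Subgroup.subset_closure h⟩ else 1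
  have hπ : ∀ y (h : y ∈ nb h23 d), π y = QuotientGroup.mk ⟨y, Subgroup.subset_closure h⟩ := fun y h => dif_pos h
  have hclosed : Closed h23 := ⟨hprim.1, fun x hx y hy => by
    have := hprim.2.1 x y hy
    rwa [show x⁻¹ = x from inv_eq_of_mul_eq_one_right (hT.sq x hx)] at this⟩
  have hπiso : SIso (nb h23 d) (img h23 d) π := by
    refine ⟨⟨fun y hy => ⟨⟨y, Subgroup.subset_closure hy⟩, hy, (hπ y hy).symm⟩, fun x hx y hy e => ?_, ?_⟩,
      fun x hx y hy => ?_, fun x hx y hy => ?_⟩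
    · rw [hπ x hx, hπ y hy] at e
      exact mk_inj P (x := ⟨x, _⟩) (y := ⟨y, _⟩) hx hy e
    · rintro _ ⟨y, hy, rfl⟩
      exact ⟨y, hy, hπ _ hy⟩
    · rw [hπ x hx, hπ y hy]
      exact map_commute_iff hT (x := ⟨x, _⟩) (y := ⟨y, _⟩) hx hy
    · rw [hπ x hx, hπ y hy, hπ _ ((hclosed.nb d).conj x hx y hy)]
      rfl
  obtain ⟨ψ, g, -⟩ := hπiso.symm (hclosed.nb d)
  exact (hloc.comp g).comp hε

theorem t22_NJ : Fischer.T22 (NJ X) := (t22_EQ X).comp (qj_iso X)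

end CfsgLib.FiLarge.Iso
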