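import Cfsg.Agent.FiLarge.Iso.Ref

/-!
A copy of `Fi23` with an element interchanging the two classes at one of its members: the element of order three
inverted by nine letters.
-/

set_option autoImplicit false
set_option maxRecDepth 100000
set_option linter.style.haveILetI false
set_option linter.unusedSectionVars false

namespace CfsgLib.FiLarge.Iso

open CfsgLib CfsgLib.ThreeT CfsgLib.ThreeT.Prod

/-! ### Facts in `Fi23` -/

theorem comm_conj_iff' {R : Type*} [Group R] {g a x : R} (h : Commute g a) : Commute a (g * x * g⁻¹) ↔ Commute a x := by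
  conv_lhs => rw [show a = g * a * g⁻¹ by rw [h.eq, mul_inv_cancel_right]]
  exact commute_conj_iff g a x

theorem nb_conj' {p t : Cfsg.Spor.Fi23} (ht : t ∈ nb DR p) (g : Cfsg.Spor.Fi23) :
    g * t * g⁻¹ ∈ nb DR (g * p * g⁻¹) :=
  ⟨DR_conj ht.1 g, fun e => ht.2.1 (mul_left_cancel (mul_right_cancel e)), (commute_conj_iff g p t).2 ht.2.2⟩

theorem nb_conj_fix {t c : Cfsg.Spor.Fi23} (hc : Commute c jR) (ht : t ∈ nb DR jR) : c * t * c⁻¹ ∈ nb DR jR := by
  have := nb_conj' ht c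
  rwa [hc.eq, mul_inv_cancel_right] at this

theorem nb_symm' {p t : Cfsg.Spor.Fi23} (hp : p ∈ DR) (ht : t ∈ nb DR p) : p ∈ nb DR t :=
  ⟨hp, ht.2.1.symm, ht.2.2.symm⟩

theorem exists_conj_to {p q : Cfsg.Spor.Fi23} (hp : p ∈ DR) (hq : q ∈ DR) : ∃ g, g * p * g⁻¹ = q :=
  isConj_iff.1 ((IsConj.symm hp).trans hq)

theorem not_prod {p t : Cfsg.Spor.Fi23} (hp : p ∈ DR) (ht : t ∈ nb DR p) : p * t ∉ nb DR p := by
  haveI := finite23
  intro h
  obtain ⟨d, P⟩ := exists_pt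
  obtain ⟨g, hg⟩ := exists_conj_to hp P.mem
  have h1 := nb_conj' ht g
  have h2 := nb_conj' h g
  rw [hg] at h1 h2
  have hd : d ∈ hsub DR d := self23 P d P.mem
  have e : g * (p * t) * g⁻¹ = d * (g * t * g⁻¹) := by rw [← hg]; group
  rw [e] at h2
  have hc : (⟨d, hd⟩ : ↥(hsub DR d)) ∈ Subgroup.center ↥(hsub DR d) :=
    Subgroup.mem_center_iff.2 fun k => Subtype.ext (commute_hsub k.2).eq
  have := mk_inj P (x := ⟨d, hd⟩ * ⟨_, Subgroup.subset_closure h1⟩) (y := ⟨_, Subgroup.subset_closure h1⟩) h2 h1 (by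
    rw [QuotientGroup.mk_mul, (QuotientGroup.eq_one_iff _).2 hc, one_mul])
  exact P.base.ne_one d P.mem (mul_eq_right.1 this)

theorem far_cube {p y : Cfsg.Spor.Fi23} (hp : p ∈ DR) (hy : y ∈ DR) (h : ¬ Commute p y) : (y * p) ^ 3 = 1 := by
  rcases DR_group.1.2 y hy p hp with e | e
  · refine absurd ?_ h
    rw [pow_two] at e
    have := eq_inv_of_mul_eq_one_left e
    rw [mul_inv_rev, inv_eq_of_mul_eq_one_right (DR_sq hy), inv_eq_of_mul_eq_one_right (DR_sq hp)] at this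
    exact this.symm
  · exact e

/-- The common neighbours of `a` and a far member are known from those commuting with a third member. -/
theorem trace_unique {a w y₁ y₂ : Cfsg.Spor.Fi23} (ha : a ∈ DR) (hw : w ∈ nb DR a) (h1 : y₁ ∈ DR)
    (h1a : ¬ Commute a y₁) (h1w : Commute w y₁) (h2 : y₂ ∈ DR) (h2a : ¬ Commute a y₂) (h2w : Commute w y₂)
    (h : ∀ t ∈ nb DR a, t ∈ nb DR w → Commute t y₁ → Commute t y₂) {t : Cfsg.Spor.Fi23} (ht : t ∈ nb DR a) :
    Commute t y₁ ↔ Commute t y₂ := by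
  haveI := finite23
  obtain ⟨d, P⟩ := exists_pt
  have hl := ((pre23 P).loc w hw.1).line_three a (nb_symm' ha hw) y₁
    ⟨h1, fun e => h1a (e ▸ hw.2.2), h1w⟩ y₂ ⟨h2, fun e => h2a (e ▸ hw.2.2), h2w⟩ h1a h2a
    (fun z hz hza hzy => h z ⟨hz.1, fun e => h1a (e ▸ hzy), hza.symm⟩ hz hzy)
  rcases hl with rfl | rfl
  · exact Iff.rfl
  · have ha2 : a⁻¹ = a := inv_eq_of_mul_eq_one_right (DR_sq ha)
    rw [show a * y₁ * a = a * y₁ * a⁻¹ by rw [ha2]]
    exact (comm_conj_iff' ht.2.2).symm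

/-! ### The interchange -/

/-- The hypothesis. -/
structure Flag (G : Type*) [Group G] where
  /-- The copy of `Fi23`. -/
  th : Cfsg.Spor.Fi23 →* G
  inj : Function.Injective th
  /-- The interchanging element. -/
  sw : G
  sw_comm : Commute sw (th jR)
  cover : ∀ g, Commute g (th jR) →
    (∃ c, Commute c jR ∧ th c = g) ∨ ∃ c, Commute c jR ∧ sw * th c = g
  swap : ∀ t ∈ nb DR jR, ∃ u ∈ nb DR jR, sw * th t * sw⁻¹ = th (jR * u)
  aut : ∀ a : ↥(Subgroup.centralizer ({jR} : Set Cfsg.Spor.Fi23)) ≃*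
      ↥(Subgroup.centralizer ({jR} : Set Cfsg.Spor.Fi23)),
    ∃ m : G, Commute m (th jR) ∧ ∀ c, th (a c : Cfsg.Spor.Fi23) = m * th (c : Cfsg.Spor.Fi23) * m⁻¹

namespace Flag

variable {G : Type*} [Group G] (F : Flag G)

/-- The centre of a frame. -/
noncomputable def U (g : G) : G := g * F.th jR * g⁻¹

/-- The neighbours in a frame. -/
def N (g : G) : Set G := (fun t => g * F.th t * g⁻¹) '' nb DR jR

theorem th_inv {t : Cfsg.Spor.Fi23} (ht : t ∈ DR) : F.th t * F.th t = 1 := by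
  rw [← map_mul, DR_sq ht, map_one]

theorem th_conj (h t : Cfsg.Spor.Fi23) : F.th (h * t * h⁻¹) = F.th h * F.th t * (F.th h)⁻¹ := by
  rw [map_mul, map_mul, map_inv]

theorem th_commute_iff {a b : Cfsg.Spor.Fi23} : Commute (F.th a) (F.th b) ↔ Commute a b :=
  ⟨fun h => F.inj (by rw [map_mul, map_mul]; exact h.eq), fun h => h.map F.th⟩

theorem frame_commute_iff (g : G) {a b : Cfsg.Spor.Fi23} :
    Commute (g * F.th a * g⁻¹) (g * F.th b * g⁻¹) ↔ Commute a b :=
  (commute_conj_iff g _ _).trans F.th_commute_iff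

theorem frame_inj (g : G) {a b : Cfsg.Spor.Fi23} (e : g * F.th a * g⁻¹ = g * F.th b * g⁻¹) : a = b :=
  F.inj (mul_left_cancel (mul_right_cancel e))

theorem sw_j : F.sw * F.th jR * F.sw⁻¹ = F.th jR := by rw [F.sw_comm.eq, mul_inv_cancel_right]

theorem swap_surj {t : Cfsg.Spor.Fi23} (ht : t ∈ nb DR jR) :
    ∃ u ∈ nb DR jR, F.sw * F.th u * F.sw⁻¹ = F.th (jR * t) := by
  haveI := finite23
  choose f hf hf' using F.swap
  let φ : ↥(nb DR jR) → ↥(nb DR jR) := fun t => ⟨f t.1 t.2, hf t.1 t.2⟩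
  have hinj : Function.Injective φ := fun a b e => by
    have e' : f a.1 a.2 = f b.1 b.2 := congrArg Subtype.val e
    have h1 := hf' a.1 a.2
    rw [e', ← hf' b.1 b.2] at h1
    exact Subtype.ext (F.inj (mul_left_cancel (mul_right_cancel h1)))
  obtain ⟨u, hu⟩ := (Finite.injective_iff_surjective.1 hinj) ⟨t, ht⟩
  exact ⟨u, u.2, by rw [hf' u.1 u.2, show f u.1 u.2 = t from congrArg Subtype.val hu]⟩

theorem N_not {g v : G} (hv : v ∈ F.N g) : F.U g * v ∉ F.N g := by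
  obtain ⟨t, ht, rfl⟩ := hv
  rintro ⟨t', ht', e⟩
  have : t' = jR * t := F.frame_inj g (e.trans (by rw [map_mul, U]; group))
  exact not_prod jR_mem ht (this ▸ ht')

/-- Two frames at the same point with translated neighbours. -/
theorem N_flip {g g' : G} (hu : F.U g' = F.U g) {v : G} (hv : v ∈ F.N g) (hv' : F.U g * v ∈ F.N g') {x : G}
    (hx : x ∈ F.N g) : F.U g * x ∈ F.N g' := by
  have hk : Commute (g⁻¹ * g') (F.th jR) := by
    rw [U, U] at hu
    show g⁻¹ * g' * F.th jR = F.th jR * (g⁻¹ * g')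
    calc g⁻¹ * g' * F.th jR = g⁻¹ * (g' * F.th jR * g'⁻¹) * g' := by group
      _ = F.th jR * (g⁻¹ * g') := by rw [hu]; group
  obtain ⟨c, hc, e⟩ | ⟨c, hc, e⟩ := F.cover _ hk
  · exfalso
    refine F.N_not hv ?_
    obtain ⟨t, ht, et⟩ := hv'
    rw [← et]
    refine ⟨c * t * c⁻¹, nb_conj_fix hc ht, ?_⟩
    simp only [show g' = g * F.th c by rw [e]; group, F.th_conj]
    group
  · obtain ⟨t, ht, rfl⟩ := hx
    obtain ⟨t', ht', et⟩ := F.swap_surj ht
    refine ⟨c⁻¹ * t' * c, ?_, ?_⟩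
    · have := nb_conj_fix hc.inv_left ht'
      rwa [inv_inv] at this
    · simp only [show g' = g * (F.sw * F.th c) by rw [e]; group, map_mul, map_inv, U]
      calc g * (F.sw * F.th c) * ((F.th c)⁻¹ * F.th t' * F.th c) * (g * (F.sw * F.th c))⁻¹
          = g * (F.sw * F.th t' * F.sw⁻¹) * g⁻¹ := by group
        _ = g * F.th jR * g⁻¹ * (g * F.th t * g⁻¹) := by rw [et, map_mul]; group

/-- An element of order three written at a frame. -/
def Anchor (g r : G) : Prop := ∃ y ∈ DR, ¬ Commute jR y ∧ r = g * F.th y * g⁻¹ * F.U g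

theorem invert_iff {g : G} {y : Cfsg.Spor.Fi23} (hy : y ∈ DR) {t : G} (ht : Commute t (F.U g)) (h2 : t * t = 1) :
    t * (g * F.th y * g⁻¹ * F.U g) * t = (g * F.th y * g⁻¹ * F.U g)⁻¹ ↔
      Commute (F.U g * t) (g * F.th y * g⁻¹) := by
  set u := F.U g with hu
  set q := g * F.th y * g⁻¹ with hq
  have u2 : u * u = 1 := by
    rw [hu, U, show g * F.th jR * g⁻¹ * (g * F.th jR * g⁻¹) = g * (F.th jR * F.th jR) * g⁻¹ by group,
      F.th_inv jR_mem]
    group
  have q2 : q * q = 1 := by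
    rw [hq, show g * F.th y * g⁻¹ * (g * F.th y * g⁻¹) = g * (F.th y * F.th y) * g⁻¹ by group, F.th_inv hy]
    group
  rw [mul_inv_rev, inv_eq_of_mul_eq_one_right u2, inv_eq_of_mul_eq_one_right q2]
  have e : t * (q * u) * t = t * q * t * u := by
    rw [show t * (q * u) * t = t * q * (u * t) by group, ← ht.eq, ← mul_assoc]
  rw [e]
  constructor
  · intro h
    show u * t * q = q * (u * t)
    calc u * t * q = u * (t * q * t * u) * u * t := by
          simp only [mul_assoc, ← mul_assoc u u, u2, one_mul, h2, mul_one]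
      _ = u * (u * q) * u * t := by rw [h]
      _ = q * (u * t) := by simp only [← mul_assoc, u2, one_mul]
  · intro h
    have h' : u * t * q = q * (u * t) := h.eq
    calc t * q * t * u = u * (u * t * q) * t * u := by simp only [← mul_assoc, u2, one_mul]
      _ = u * q * (u * (t * t) * u) := by rw [h']; group
      _ = u * q := by rw [h2, mul_one, u2, mul_one]

/-- Moving the anchor to an adjacent inverting member. -/
theorem anchor_move {g g' r : G} (h : F.Anchor g r) {p : G} (hp : F.U g' = p) (hpN : F.U g * p ∈ F.N g)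
    (hpN' : F.U g * p ∈ F.N g') (hc : Commute p (F.U g)) (hp2 : p * p = 1) (hinv : p * r * p = r⁻¹) :
    F.Anchor g' r := by
  obtain ⟨y, hy, hjy, rfl⟩ := h
  set u := F.U g with hu
  set q := g * F.th y * g⁻¹ with hq
  obtain ⟨w, hw, ew⟩ := hpN
  obtain ⟨w', hw', ew'⟩ := hpN'
  have hvq : Commute (u * p) q := (F.invert_iff hy hc hp2).1 hinv
  have u2 : u * u = 1 := by
    rw [hu, U, show g * F.th jR * g⁻¹ * (g * F.th jR * g⁻¹) = g * (F.th jR * F.th jR) * g⁻¹ by group,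
      F.th_inv jR_mem]
    group
  have hwy : Commute w y := (F.frame_commute_iff g).1 (by
    simp only at ew; rw [ew]; exact hvq)
  obtain ⟨h2, eh2⟩ := exists_conj_to jR_mem hw.1
  obtain ⟨h3, eh3⟩ := exists_conj_to jR_mem hw'.1
  set g2 := g * F.th h2
  set g3 := g' * F.th h3
  have e2 : F.U g2 = u * p := by
    rw [U, ← ew]
    show g * F.th h2 * F.th jR * (g * F.th h2)⁻¹ = g * F.th w * g⁻¹
    rw [← eh2, F.th_conj]; group
  have e3 : F.U g3 = u * p := by
    rw [U, ← ew']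
    show g' * F.th h3 * F.th jR * (g' * F.th h3)⁻¹ = g' * F.th w' * g'⁻¹
    rw [← eh3, F.th_conj]; group
  have mem : ∀ (a : G) {h w : Cfsg.Spor.Fi23}, h * jR * h⁻¹ = w → ∀ {z : Cfsg.Spor.Fi23}, z ∈ nb DR w →
      a * F.th z * a⁻¹ ∈ F.N (a * F.th h) := by
    intro a h w e z hz
    refine ⟨h⁻¹ * z * h, ?_, ?_⟩
    · have := nb_conj' hz h⁻¹
      rw [inv_inv] at this
      rwa [show h⁻¹ * w * h = jR by rw [← e]; group] at this
    · simp only [map_mul, map_inv]; group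
  have hyw : y ∈ nb DR w := ⟨hy, fun e => hjy (e ▸ hw.2.2), hwy⟩
  have hu2' : u ∈ F.N g2 := mem g eh2 (nb_symm' jR_mem hw)
  have hq2 : q ∈ F.N g2 := mem g eh2 hyw
  have hp3 : p ∈ F.N g3 := hp ▸ mem g' eh3 (nb_symm' jR_mem hw')
  have hvu : F.U g2 * u = p := by rw [e2, mul_assoc, hc.eq, ← mul_assoc, u2, one_mul]
  obtain ⟨t, ht, et⟩ := F.N_flip (e3.trans e2.symm) hu2' (hvu ▸ hp3) hq2
  simp only at et
  rw [e2] at et
  refine ⟨h3 * t * h3⁻¹, DR_conj ht.1 h3, fun hc' => hjy ?_, ?_⟩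
  · have h4 : Commute p (g3 * F.th t * g3⁻¹) := by
      have := (F.frame_commute_iff g').2 hc'
      rw [← hp, U]
      refine Eq.mp ?_ this
      congr 1
      rw [F.th_conj]
      simp only [g3]
      group
    rw [et] at h4
    have h5 : Commute p ((u * p)⁻¹ * (u * p * q)) := (hc.mul_right (Commute.refl p)).inv_right.mul_right h4
    rw [inv_mul_cancel_left] at h5
    have h6 : Commute u q := by
      have := hvq.mul_left h5
      rwa [mul_assoc, hp2, mul_one] at this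
    exact (F.frame_commute_iff g).1 h6
  · rw [hp, F.th_conj, show g' * (F.th h3 * F.th t * (F.th h3)⁻¹) * g'⁻¹ = g3 * F.th t * g3⁻¹ by simp only [g3]; group, et]
    calc q * u = q * u * (p * p) := by rw [hp2, mul_one]
      _ = u * p * q * p := by rw [hvq.eq]; group

theorem frame_U (h : Cfsg.Spor.Fi23) : F.U (F.th h * F.sw) = F.th (h * jR * h⁻¹) := by
  rw [U, F.th_conj]
  calc F.th h * F.sw * F.th jR * (F.th h * F.sw)⁻¹ = F.th h * (F.sw * F.th jR * F.sw⁻¹) * (F.th h)⁻¹ := by group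
    _ = _ := by rw [F.sw_j]

theorem frame_back {h p t : Cfsg.Spor.Fi23} (e : h * jR * h⁻¹ = p) (ht : t ∈ nb DR p) :
    ∃ t' ∈ nb DR jR, F.th h * F.sw * F.th t' * (F.th h * F.sw)⁻¹ = F.th (p * t) := by
  have h0 := nb_conj' ht h⁻¹
  rw [inv_inv, show h⁻¹ * p * h = jR by rw [← e]; group] at h0
  obtain ⟨t', ht', e'⟩ := F.swap_surj h0
  refine ⟨t', ht', ?_⟩
  calc F.th h * F.sw * F.th t' * (F.th h * F.sw)⁻¹ = F.th h * (F.sw * F.th t' * F.sw⁻¹) * (F.th h)⁻¹ := by group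
    _ = F.th (p * t) := by rw [e', ← F.th_conj, ← e]; congr 1; group

theorem frame_forth {h p t' : Cfsg.Spor.Fi23} (e : h * jR * h⁻¹ = p) (ht' : t' ∈ nb DR jR) :
    ∃ t ∈ nb DR p, F.th h * F.sw * F.th t' * (F.th h * F.sw)⁻¹ = F.th (p * t) := by
  obtain ⟨u, hu, e'⟩ := F.swap t' ht'
  refine ⟨h * u * h⁻¹, e ▸ nb_conj' hu h, ?_⟩
  calc F.th h * F.sw * F.th t' * (F.th h * F.sw)⁻¹ = F.th h * (F.sw * F.th t' * F.sw⁻¹) * (F.th h)⁻¹ := by group
    _ = F.th (p * (h * u * h⁻¹)) := by rw [e', ← F.th_conj, ← e]; congr 1; group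

theorem exists_c : ∃ c, Commute c jR ∧ ∀ t (ht : t ∈ nb DR jR),
    F.th (al (inC ht.2.2) : Cfsg.Spor.Fi23) = F.sw * F.th (c * t * c⁻¹) * F.sw⁻¹ := by
  obtain ⟨m, hm, hmt⟩ := F.aut al
  obtain ⟨c, hc, e⟩ | ⟨c, hc, e⟩ := F.cover m hm
  · exfalso
    have ht : zl 0 ∈ nb DR jR := jR_nb 0 (by decide)
    obtain ⟨u, hu, e'⟩ := al_maps_nb ht
    have h1 := hmt (inC ht.2.2)
    rw [e', ← e, ← F.th_conj] at h1
    exact not_prod jR_mem hu (F.inj h1 ▸ nb_conj_fix hc ht)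
  · refine ⟨c, hc, fun t ht => ?_⟩
    rw [hmt, ← e, F.th_conj]
    show F.sw * F.th c * F.th t * (F.sw * F.th c)⁻¹ = _
    group

/-- The inverted members at a member commuting with the second letter, from `Fi24`. -/
theorem exists_ref {p : Cfsg.Spor.Fi23} (hp : p ∈ DR) (hk : Commute Coset.Fi24.kk (pt p)) :
    ∃ h y, h * jR * h⁻¹ = p ∧ y ∈ DR ∧ ¬ Commute jR y ∧ ∀ t' ∈ nb DR jR, ∀ t ∈ nb DR p,
      F.th h * F.sw * F.th t' * (F.th h * F.sw)⁻¹ = F.th (p * t) →
        (Commute Coset.Fi24.kk (pt t) ↔ Commute t' y) := by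
  obtain ⟨c, hc, hct⟩ := F.exists_c
  obtain ⟨h, e⟩ := exists_conj_to jR_mem hp
  set x := (pe h)⁻¹ * Coset.Fi24.kk * pe h with hx
  have hxc : x ∈ conjugatesOf s24 :=
    IsConj.trans (show IsConj s24 Coset.Fi24.kk from kk_class) (isConj_iff.2 ⟨(pe h)⁻¹, by rw [inv_inv]⟩)
  have hpt : ∀ z, (pe h)⁻¹ * pt z * pe h = pt (h⁻¹ * z * h) := by
    intro z
    rw [pt_eq, pt_eq, map_mul, map_mul, map_inv]
    rw [show (pe h)⁻¹ * (s24 * pe z) * pe h = ((pe h)⁻¹ * s24) * (pe z * pe h) by group, ← (pe_comm h).inv_right.eq]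
    group
  have hcomm : ∀ z, Commute x (pt (h⁻¹ * z * h)) ↔ Commute Coset.Fi24.kk (pt z) := fun z => by
    rw [← hpt, hx]
    have := commute_conj_iff (pe h)⁻¹ Coset.Fi24.kk (pt z)
    rwa [inv_inv] at this
  have h9 : Commute x9 x := by
    refine Commute.symm ?_
    have := (hcomm p).2 hk
    rwa [show h⁻¹ * p * h = jR by rw [← e]; group] at this
  have hns : ¬ Commute s24 x := by
    intro hh
    refine Coset.Fi24.k_not_comm ?_
    have h1 : Commute s24 (pe h * x * (pe h)⁻¹) := ((pe_comm h).mul_right hh).mul_right (pe_comm h).inv_right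
    rw [show pe h * x * (pe h)⁻¹ = Coset.Fi24.kk by rw [hx]; group] at h1
    exact h1.symm
  obtain ⟨y, hy, hjy, hiff⟩ := exists_far_y hxc hns h9
  refine ⟨h, c * y * c⁻¹, e, DR_conj hy c, fun q => hjy ((comm_conj_iff' hc).1 q), fun t' ht' t ht et => ?_⟩
  have ht0 : h⁻¹ * t * h ∈ nb DR jR := by
    have := nb_conj' ht h⁻¹
    rwa [inv_inv, show h⁻¹ * p * h = jR by rw [← e]; group] at this
  have et' : F.sw * F.th t' * F.sw⁻¹ = F.th (jR * (h⁻¹ * t * h)) := by
    calc F.sw * F.th t' * F.sw⁻¹ = (F.th h)⁻¹ * (F.th h * F.sw * F.th t' * (F.th h * F.sw)⁻¹) * F.th h := by group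
      _ = F.th (jR * (h⁻¹ * t * h)) := by
        rw [et, ← map_inv, ← map_mul, ← map_mul, ← e]; congr 1; group
  have hjj : jR * jR = 1 := DR_sq jR_mem
  rw [← hcomm, hiff _ ht0]
  constructor
  · rintro ⟨z, hz, hzy, ez⟩
    have h1 : jR * (h⁻¹ * t * h) = (al (inC hz.2.2) : Cfsg.Spor.Fi23) := by
      rw [ez, ← mul_assoc, hjj, one_mul]
    rw [h1, hct z hz] at et'
    rw [F.inj (mul_left_cancel (mul_right_cancel et')), commute_conj_iff]
    exact hzy
  · intro hcy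
    have hz : c⁻¹ * t' * c ∈ nb DR jR := by
      have := nb_conj_fix hc.inv_left ht'
      rwa [inv_inv] at this
    refine ⟨_, hz, ?_, ?_⟩
    · rw [← commute_conj_iff c, show c * (c⁻¹ * t' * c) * c⁻¹ = t' by group]
      exact hcy
    · have h1 := hct _ hz
      rw [show c * (c⁻¹ * t' * c) * c⁻¹ = t' by group, et'] at h1
      rw [F.inj h1, ← mul_assoc, hjj, one_mul]

/-- The element of order three. -/
theorem exists_r : ∃ r : G, r ^ 3 = 1 ∧ (F.th (zl 0) * r⁻¹) ^ 3 = 1 ∧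
    ∀ m, 1 ≤ m → m < 10 → F.th (zl m) * r * F.th (zl m) = r⁻¹ := by
  have k_nb : ∀ {m}, 1 ≤ m → m < 10 → Commute Coset.Fi24.kk (pt (zl m)) := fun h1 h2 => kk_comm h1 h2
  have hiD : iR ∈ DR := zl_mem 9 (by norm_num)
  obtain ⟨h, y, eh, hy, hjy, hiff⟩ := F.exists_ref jR_mem (k_nb (by norm_num) (by norm_num))
  set g := F.th h * F.sw with hg
  have hU : F.U g = F.th jR := by rw [hg, F.frame_U, eh]
  set r := g * F.th y * g⁻¹ * F.U g with hr
  have r_def : r = g * F.th y * g⁻¹ * F.U g := rfl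
  -- the criterion at a frame
  have crit : ∀ {g : G} {p t t' y : Cfsg.Spor.Fi23}, F.U g = F.th p → y ∈ DR → p ∈ DR → t ∈ nb DR p →
      g * F.th t' * g⁻¹ = F.th (p * t) → (F.th t * (g * F.th y * g⁻¹ * F.U g) * F.th t =
        (g * F.th y * g⁻¹ * F.U g)⁻¹ ↔ Commute t' y) := by
    intro g p t t' y hU hy hp ht et
    rw [F.invert_iff hy (hU ▸ (ht.2.2.map F.th).symm) (F.th_inv ht.1), hU, ← map_mul, ← et, F.frame_commute_iff]
  have hj_inv : F.th jR * r * F.th jR = r⁻¹ := by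
    rw [r_def]
    refine (F.invert_iff hy (hU ▸ Commute.refl _) (F.th_inv jR_mem)).2 ?_
    rw [hU, F.th_inv jR_mem]
    exact Commute.one_left _
  have atj : ∀ t ∈ nb DR jR, (F.th t * r * F.th t = r⁻¹ ↔ Commute Coset.Fi24.kk (pt t)) := by
    intro t ht
    obtain ⟨t', ht', et⟩ := F.frame_back eh ht
    rw [hiff t' ht' t ht et]
    exact crit hU hy jR_mem ht et
  -- the second anchor
  have hij : iR ∈ nb DR jR := jR_nb 9 (by decide)
  have hi_inv : F.th iR * r * F.th iR = r⁻¹ := (atj iR hij).2 (k_nb (by norm_num) (by norm_num))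
  obtain ⟨h', y2, eh', hy2, hjy2, hiff'⟩ := F.exists_ref hiD (k_nb (by norm_num) (by norm_num))
  set g' := F.th h' * F.sw with hg'
  have hU' : F.U g' = F.th iR := by rw [hg', F.frame_U, eh']
  obtain ⟨w, hw, ew⟩ := F.frame_back eh hij
  obtain ⟨w', hw', ew'⟩ := F.frame_back eh' iR_nb.2
  have hup : F.U g * F.th iR = F.th (jR * iR) := by rw [hU, map_mul]
  obtain ⟨y1, hy1, hjy1, hr1⟩ := F.anchor_move (g := g) (g' := g') (r := r) ⟨y, hy, hjy, rfl⟩ hU'
    ⟨w, hw, ew.trans hup.symm⟩ ⟨w', hw', ew'.trans (by rw [hup, hij.2.2.eq])⟩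
    (hU ▸ (hij.2.2.map F.th).symm) (F.th_inv hiD) hi_inv
  have ati : ∀ {t' t : Cfsg.Spor.Fi23}, t ∈ nb DR iR → g' * F.th t' * g'⁻¹ = F.th (iR * t) →
      (F.th t * r * F.th t = r⁻¹ ↔ Commute t' y1) := by
    intro t' t ht et
    rw [hr1]
    exact crit hU' hy1 hiD ht et
  have key : ∀ {t' : Cfsg.Spor.Fi23}, t' ∈ nb DR jR → (Commute t' y1 ↔ Commute t' y2) := by
    intro t' ht'
    refine trace_unique jR_mem hw' hy1 hjy1 ((ati iR_nb.2 ew').1 hj_inv) hy2 hjy2
      ((hiff' w' hw' jR iR_nb.2 ew').1 (k_nb (by norm_num) (by norm_num))) (fun z hz hzw hzy => ?_) ht'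
    obtain ⟨t, ht, et⟩ := F.frame_forth eh' hz
    have htj : t ∈ nb DR jR := by
      refine ⟨ht.1, fun q => hzw.2.1 ?_, ?_⟩
      · exact F.frame_inj g' (et.trans (q ▸ ew'.symm))
      · have h1 := ((F.frame_commute_iff g').2 hzw.2.2)
        rw [ew', et, F.th_commute_iff] at h1
        have hii : iR * iR = 1 := DR_sq hiD
        have h2 : Commute iR (iR * t) := (Commute.refl iR).mul_right ht.2.2
        have h3 : Commute jR (iR * t) := by
          have := h2.mul_left h1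
          rwa [← mul_assoc, hii, one_mul] at this
        have h4 := (iR_nb.2.2.2.symm).mul_right h3
        rwa [← mul_assoc, hii, one_mul] at h4
    exact (hiff' z hz t ht et).1 ((atj t htj).1 ((ati ht et).2 hzy))
  refine ⟨r, ?_, ?_, fun m h1 h2 => ?_⟩
  · rw [r_def, show g * F.th y * g⁻¹ * F.U g = g * F.th (y * jR) * g⁻¹ by rw [map_mul, U]; group, conj_pow,
      ← map_pow, far_cube jR_mem hy hjy, map_one]
    group
  · have ha : zl 0 ∈ nb DR jR := jR_nb 0 (by decide)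
    obtain ⟨t', ht', et⟩ := F.frame_back eh ha
    have hn : ¬ Commute t' y := fun q => kk_not_comm_a ((hiff t' ht' _ ha et).2 q)
    have e : F.th (zl 0) * r⁻¹ = g * F.th (t' * y) * g⁻¹ := by
      rw [r_def, mul_inv_rev, ← mul_assoc, hU, ← map_inv, ← map_mul,
        inv_eq_of_mul_eq_one_right (DR_sq jR_mem), ← ha.2.2.eq, ← et, map_mul]
      rw [show (g * F.th y * g⁻¹)⁻¹ = g * (F.th y)⁻¹ * g⁻¹ by group,
        inv_eq_of_mul_eq_one_right (F.th_inv hy)]
      simp only [g]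
      group
    rw [e, conj_pow, ← map_pow, far_cube hy ht'.1 (fun q => hn q.symm), map_one]
    group
  · rcases (by decide : ∀ m < 10, 1 ≤ m → m = 6 ∨ m = 7 ∨ m ∈ [0, 1, 2, 3, 4, 5, 8, 9]) m h2 h1 with rfl | rfl | hm
    · obtain ⟨t', ht', et⟩ := F.frame_back eh' iR_nb.1
      exact (ati iR_nb.1 et).2 ((key ht').2 ((hiff' t' ht' _ iR_nb.1 et).1 (k_nb h1 h2)))
    · exact hj_inv
    · exact (atj _ (jR_nb m hm)).2 (k_nb h1 h2)

end Flag

end CfsgLib.FiLarge.Iso
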