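import Cfsg.Agent.FiLarge.Iso.Sub23

/-!
The copy of `Fi23` has the small involution at its centre, and carries the interchanging element.
-/

set_option autoImplicit false
set_option quotPrecheck false
set_option linter.style.haveILetI false
set_option linter.unusedSectionVars false
set_option maxRecDepth 100000

namespace CfsgLib.FiLarge.Iso

open CfsgLib Subgroup CfsgLib.ThreeT CfsgLib.ThreeT.Prod CfsgLib.FiLarge.Thom CfsgLib.FiLarge.U62 CfsgLib.FiLarge.Cent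
open CfsgLib.Coset (genW)

theorem t_DR : Coset.Fi23.t ∈ DR := Coset.Fi24.a23_class.symm.subset (IsConj.refl _)

theorem comm_trans {t a b : Cfsg.Spor.Fi23} (ht : t ∈ DR) (ha : a ∈ nb DR t) (hb : b ∈ nb DR t) :
    ∃ k, Commute k t ∧ k * a * k⁻¹ = b := by
  haveI := finite23
  obtain ⟨d, P⟩ := exists_pt
  obtain ⟨c, hc⟩ := exists_conj_to ht P.mem
  have h1 := nb_conj' ha c
  have h2 := nb_conj' hb c
  rw [hc] at h1 h2
  obtain ⟨q, hq⟩ := P.prim.1 _ ⟨⟨_, Subgroup.subset_closure h1⟩, h1, rfl⟩ _ ⟨⟨_, Subgroup.subset_closure h2⟩, h2, rfl⟩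
  obtain ⟨k, rfl⟩ := QuotientGroup.mk'_surjective (Subgroup.center ↥(hsub DR d)) q
  have hkd : Commute (k : Cfsg.Spor.Fi23) d := commute_hsub k.2
  have h3 : (k : Cfsg.Spor.Fi23) * (c * a * c⁻¹) * (k : Cfsg.Spor.Fi23)⁻¹ ∈ nb DR d := by
    have := nb_conj' h1 (k : Cfsg.Spor.Fi23)
    rwa [hkd.eq, mul_inv_cancel_right] at this
  have e : (k : Cfsg.Spor.Fi23) * (c * a * c⁻¹) * (k : Cfsg.Spor.Fi23)⁻¹ = c * b * c⁻¹ :=
    mk_inj P (x := k * ⟨_, Subgroup.subset_closure h1⟩ * k⁻¹) (y := ⟨_, Subgroup.subset_closure h2⟩) h3 h2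
      (by simpa using hq)
  refine ⟨c⁻¹ * k * c, ?_, ?_⟩
  · rw [← commute_conj_iff c, hc, show c * (c⁻¹ * k * c) * c⁻¹ = k by group]; exact hkd
  · calc c⁻¹ * k * c * a * (c⁻¹ * k * c)⁻¹ = c⁻¹ * ((k : Cfsg.Spor.Fi23) * (c * a * c⁻¹) * (k : Cfsg.Spor.Fi23)⁻¹) * c := by group
      _ = b := by rw [e]; group

variable {G : Type*} [Group G] [Finite G] {z : G} {Q : Subgroup (centralizer ({z} : Set G))} [Q.Normal]
  {D : Dat z Q} (X : Ctx D)

theorem exists_flag : ∃ F : Flag G, F.th jR = tt X ∧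
    (centralizer ({jR} : Set Cfsg.Spor.Fi23)).map F.th = M1 X ∧ ∀ y ∈ NJ X, ∃ t ∈ nb DR jR, F.th t = y := by
  classical
  obtain ⟨x, g, w, F9⟩ := exists_nine' X
  obtain ⟨θ, hinj, hmem, hmap⟩ := exists_theta F9
  haveI := finite23
  have hH : centralizer ({Coset.Fi23.t} : Set Cfsg.Spor.Fi23) = genW Coset.Fi23.Lg Coset.Fi23.Top.subs :=
    Coset.Fi23.centralizer_t
  have hθt : θ Coset.Fi23.t = tt X := by
    have hc : ∀ k ∈ M1 X, θ Coset.Fi23.t * k = k * θ Coset.Fi23.t := by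
      intro k hk
      rw [← hmap] at hk
      obtain ⟨v, hv, rfl⟩ := hk
      rw [SetLike.mem_coe, ← hH, mem_centralizer_singleton_iff] at hv
      rw [← map_mul, ← map_mul, hv]
    have h1 : θ Coset.Fi23.t ∈ M1 X := M1_cent X ((mem_Mt X).2 (hc _ (tt_M1 X))) hc
    have h2 : (⟨_, h1⟩ : ↥(M1 X)) ∈ Subgroup.center ↥(M1 X) :=
      mem_center_iff.2 fun k => Subtype.ext (hc k k.2).symm
    rw [(M1_quasisimple X).2.1] at h2
    refine ((zpowers_tt X).1 (mem_subgroupOf.1 h2)).resolve_left fun e => ?_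
    have := hinj (e.trans (map_one θ).symm)
    have h2' := Coset.Fi23.orderOf_t
    rw [this, orderOf_one] at h2'
    exact absurd h2' (by norm_num)
  have hz0 : zl 0 ∈ nb DR Coset.Fi23.t := by
    refine ⟨zl_mem 0 (by norm_num), fun e => NJ_ne_tt X (hmem 0 (by norm_num)) (show θ (zl 0) = tt X by rw [e, hθt]), ?_⟩
    exact hinj.eq_iff.1 (by rw [map_mul, map_mul, hθt]; exact (NJ_tt X (hmem 0 (by norm_num))).eq.symm)
  obtain ⟨h, eh⟩ := exists_conj_to jR_mem t_DR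
  set th : Cfsg.Spor.Fi23 →* G := θ.comp (MulAut.conj h).toMonoidHom with hth
  have thv : ∀ v, th v = θ (h * v * h⁻¹) := fun v => rfl
  have hthj : th jR = tt X := by rw [thv, eh, hθt]
  have hmapj : (centralizer ({jR} : Set Cfsg.Spor.Fi23)).map th = M1 X := by
    rw [← hmap, ← hH]
    ext y
    constructor
    · rintro ⟨v, hv, rfl⟩
      rw [SetLike.mem_coe, mem_centralizer_singleton_iff] at hv
      refine ⟨h * v * h⁻¹, mem_centralizer_singleton_iff.2 ?_, rfl⟩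
      rw [← eh]
      exact ((commute_conj_iff h _ _).2 hv).eq
    · rintro ⟨v, hv, rfl⟩
      rw [SetLike.mem_coe, mem_centralizer_singleton_iff] at hv
      refine ⟨h⁻¹ * v * h, mem_centralizer_singleton_iff.2 ?_, ?_⟩
      · refine (commute_conj_iff h _ _).1 ?_
        rw [eh, show h * (h⁻¹ * v * h) * h⁻¹ = v by group]
        exact hv
      · rw [thv]; congr 1; group
  have hin : ∀ t ∈ nb DR jR, th t ∈ NJ X := by
    intro t ht
    have h1 := nb_conj' ht h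
    rw [eh] at h1
    obtain ⟨k, hk, e⟩ := comm_trans t_DR hz0 h1
    rw [thv, ← e, map_mul, map_mul, map_inv]
    refine NJ_conj X ?_ (hmem 0 (by norm_num))
    rw [← hmap, ← hH]
    exact mem_map_of_mem θ (mem_centralizer_singleton_iff.2 hk.eq)
  have hon : ∀ y ∈ NJ X, ∃ t ∈ nb DR jR, th t = y := by
    intro y hy
    obtain ⟨m, hm, rfl⟩ := hy
    obtain ⟨m0, hm0, e0⟩ := hmem 0 (by norm_num)
    have hmm : m * m0⁻¹ ∈ M1 X := mul_mem hm (inv_mem hm0)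
    rw [← hmap, ← hH] at hmm
    obtain ⟨k, hk, ek⟩ := hmm
    rw [SetLike.mem_coe, mem_centralizer_singleton_iff] at hk
    have h1 : k * zl 0 * k⁻¹ ∈ nb DR Coset.Fi23.t := by
      have := nb_conj' hz0 k
      rwa [hk, mul_inv_cancel_right] at this
    refine ⟨h⁻¹ * (k * zl 0 * k⁻¹) * h, ?_, ?_⟩
    · have := nb_conj' h1 h⁻¹
      rwa [inv_inv, show h⁻¹ * Coset.Fi23.t * h = jR by rw [← eh]; group] at this
    · rw [thv, show h * (h⁻¹ * (k * zl 0 * k⁻¹) * h) * h⁻¹ = k * zl 0 * k⁻¹ by group, map_mul, map_mul, map_inv, ek,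
        show to23 0 = 0 from rfl] at *
      rw [← e0]
      group
  obtain ⟨⟨s, hsM⟩, hse, hsee⟩ := exists_odd X
  have hsc : Commute s (th jR) := by rw [hthj]; exact (mem_Mt X).1 hsM
  have hM : ∀ {g : G}, g ∈ M1 X → ∃ c, Commute c jR ∧ th c = g := by
    intro g hg
    rw [← hmapj] at hg
    obtain ⟨c, hc, e⟩ := hg
    exact ⟨c, mem_centralizer_singleton_iff.1 hc, e⟩
  have hcj : ∀ c, Commute c jR → th c ∈ M1 X := fun c hc =>
    hmapj ▸ mem_map_of_mem th (mem_centralizer_singleton_iff.2 hc.eq)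
  have thinj : Function.Injective th := hinj.comp (MulAut.conj h).injective
  have hswap : ∀ t ∈ nb DR jR, ∃ u ∈ nb DR jR, s * th t * s⁻¹ = th (jR * u) := by
    intro t ht
    obtain ⟨m, hm, e⟩ := hin t ht
    have hm' := conj_M1 X hsM hm
    obtain ⟨u, hu, eu⟩ := hon _ ⟨_, hm', rfl⟩
    refine ⟨u, hu, ?_⟩
    rw [map_mul, hthj, eu, ← e]
    have hc : Commute (s * m * s⁻¹) (tt X) := (mem_Mt X).1 (M1_le X hm')
    calc s * (m * ee X * m⁻¹) * s⁻¹ = s * m * s⁻¹ * (s * ee X * s⁻¹) * (s * m * s⁻¹)⁻¹ := by group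
      _ = s * m * s⁻¹ * (tt X * ee X) * (s * m * s⁻¹)⁻¹ := by rw [show s * ee X * s⁻¹ = tt X * ee X from hsee]
      _ = _ := by rw [← mul_assoc (s * m * s⁻¹) (tt X), hc.eq]; group
  have hcover : ∀ g, Commute g (th jR) → (∃ c, Commute c jR ∧ th c = g) ∨ ∃ c, Commute c jR ∧ s * th c = g := by
    intro g hg
    rw [hthj] at hg
    have hgM := (mem_Mt X).2 hg
    rcases Int.units_eq_one_or (Cent.eps X ⟨g, hgM⟩) with e | e
    · exact Or.inl (hM ((mem_M1 X).2 ⟨hgM, e⟩))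
    · have h2 : s⁻¹ * g ∈ M1 X := (mem_M1 X).2 ⟨mul_mem (inv_mem hsM) hgM, by
        rw [show (⟨s⁻¹ * g, mul_mem (inv_mem hsM) hgM⟩ : ↥(Mt X)) = (⟨s, hsM⟩ : ↥(Mt X))⁻¹ * ⟨g, hgM⟩ from rfl,
          map_mul, map_inv, hse, e]
        decide⟩
      obtain ⟨c, hc, ec⟩ := hM h2
      exact Or.inr ⟨c, hc, by rw [ec, mul_inv_cancel_left]⟩
  have haut : ∀ a : ↥(centralizer ({jR} : Set Cfsg.Spor.Fi23)) ≃* ↥(centralizer ({jR} : Set Cfsg.Spor.Fi23)),
      ∃ m : G, Commute m (th jR) ∧ ∀ c, th (a c : Cfsg.Spor.Fi23) = m * th (c : Cfsg.Spor.Fi23) * m⁻¹ := by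
    intro a
    let ι : ↥(centralizer ({jR} : Set Cfsg.Spor.Fi23)) ≃* ↥(M1 X) :=
      (Subgroup.equivMapOfInjective _ th thinj).trans (MulEquiv.subgroupCongr hmapj)
    let φ : MulAut ↥(M1 X) := (ι.symm.trans a).trans ι
    obtain ⟨hqs, hcen, ⟨e⟩⟩ := M1_quasisimple X
    obtain ⟨c, hc, hφ⟩ := Aut.aut_surj (M1_le X) (index_M1 X) (fun g hg h => M1_cent X hg h) (t := tt X)
      (by rw [hcen, map_subgroupOf_eq_of_le (zpowers_le.2 (tt_M1 X))]) hqs e φ
    refine ⟨c, hthj ▸ (mem_Mt X).1 hc, fun v => ?_⟩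
    have := hφ (ι v)
    rw [show φ (ι v) = ι (a v) by simp [φ]] at this
    exact this.symm
  exact ⟨⟨th, thinj, s, hsc, hcover, hswap, haut⟩, hthj, hmapj, hon⟩

end CfsgLib.FiLarge.Iso
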