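import Cfsg.Agent.FiLarge.Iso.Members

/-!
The members commuting with an outside element form an orthogonal configuration of dimension seven: nine members and
the element satisfy the pair relations of ten letters.
-/

set_option autoImplicit false
set_option quotPrecheck false
set_option linter.style.haveILetI false
set_option linter.unusedSectionVars false
set_option maxRecDepth 100000

namespace CfsgLib.FiLarge.Iso

open CfsgLib Subgroup CfsgLib.ThreeT CfsgLib.ThreeT.Prod CfsgLib.FiLarge.Thom CfsgLib.FiLarge.U62 CfsgLib.FiLarge.Cent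
open CfsgLib.Fischer (Closed SIso RCo RC)
open QuadraticMap

variable {G : Type*} [Group G] [Finite G] {z : G} {Q : Subgroup (centralizer ({z} : Set G))} [Q.Normal]
  {D : Dat z Q} (X : Ctx D)

/-- The class seen from a conjugating element. -/
def NW (g : G) : Set G := {x | g⁻¹ * x * g ∈ NJ X}

theorem NW_iso (g : G) : SIso (NW X g) (NJ X) (fun x => g⁻¹ * x * g) := by
  refine ⟨⟨fun x hx => hx, fun x _ y _ e => ?_, fun y hy => ⟨g * y * g⁻¹, ?_, by group⟩⟩, fun x _ y _ => ?_,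
    fun x _ y _ => by group⟩
  · exact mul_left_cancel (mul_right_cancel e)
  · show g⁻¹ * (g * y * g⁻¹) * g ∈ NJ X
    rwa [show g⁻¹ * (g * y * g⁻¹) * g = y by group]
  · simpa using commute_conj_iff g⁻¹ x y

theorem NW_closed (g : G) : Closed (NW X g) := by
  have hj := NJ_closed X
  refine ⟨⟨fun x hx => ?_, fun x hx y hy => ?_⟩, fun x hx y hy => ?_⟩
  · have := hj.tts.1 _ hx
    rwa [show g⁻¹ * x * g = MulAut.conj g⁻¹ x by simp, MulEquiv.orderOf_eq] at this
  · have := hj.tts.2 _ hx _ hy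
    rcases this with e | e
    · left
      rw [show x * y = g * (g⁻¹ * x * g * (g⁻¹ * y * g)) * g⁻¹ by group, conj_pow, e]; group
    · right
      rw [show x * y = g * (g⁻¹ * x * g * (g⁻¹ * y * g)) * g⁻¹ by group, conj_pow, e]; group
  · show g⁻¹ * (x * y * x) * g ∈ NJ X
    rw [show g⁻¹ * (x * y * x) * g = g⁻¹ * x * g * (g⁻¹ * y * g) * (g⁻¹ * x * g) by group]
    exact hj.conj _ hx _ hy

theorem mem_NW {m : G} (hm : m ∈ M1 X) {x : G} : x ∈ NW X (m * fl' X) ↔ Mem X (m * ee X * m⁻¹) x := by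
  rw [mem_iff X hm rfl]
  show (m * fl' X)⁻¹ * x * (m * fl' X) ∈ NJ X ↔ (fl' X)⁻¹ * (m⁻¹ * x * m) * fl' X ∈ NJ X
  rw [show (m * fl' X)⁻¹ * x * (m * fl' X) = (fl' X)⁻¹ * (m⁻¹ * x * m) * fl' X by group]

theorem tt_NW {m : G} (hm : m ∈ M1 X) : tt X ∈ NW X (m * fl' X) := by
  show (m * fl' X)⁻¹ * tt X * (m * fl' X) ∈ NJ X
  have h : m⁻¹ * tt X * m = tt X := by
    rw [mul_assoc, ← ((mem_Mt X).1 (M1_le X hm)).eq, inv_mul_cancel_left]
  rw [show (m * fl' X)⁻¹ * tt X * (m * fl' X) = (fl' X)⁻¹ * (m⁻¹ * tt X * m) * fl' X by group, h, fl_inv_tt]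
  exact ee_NJ X

theorem nb_NW {m : G} (hm : m ∈ M1 X) :
    nb (NJ X) (m * ee X * m⁻¹) = nb (NW X (m * fl' X)) (tt X) := by
  have hw : m * ee X * m⁻¹ ∈ NJ X := ⟨m, hm, rfl⟩
  refine Set.eq_of_subset_of_ncard_le (fun v hv => ⟨(mem_NW X hm).2 (mem_nb X hw hv), NJ_ne_tt X hv.1,
    (NJ_tt X hv.1).symm⟩) ?_ (Set.toFinite _)
  rw [NJ_nb_card X hw, ((NW_iso X _).nb (tt_NW X hm)).bij.ncard_eq,
    NJ_nb_card X ((NW_iso X _).bij.mapsTo (tt_NW X hm))]

/-- The members commuting with an element. -/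
def TS (x : G) : Set G := {w | w ∈ NJ X ∧ Commute w x}

theorem TS_local {x : G} (hx : ¬ Commute x (tt X)) {w : G} (hw : w ∈ TS X x) (hM : Mem X w x) :
    RCo (nb (TS X x) w) 6 1 := by
  obtain ⟨m, hm, rfl⟩ := hw.1
  have hxN : x ∈ NW X (m * fl' X) := (mem_NW X hm).2 hM
  have e : nb (TS X x) (m * ee X * m⁻¹) = tri (NW X (m * fl' X)) (tt X) x := by
    ext v
    show (v ∈ TS X x ∧ v ≠ _ ∧ Commute _ v) ↔ (v ∈ nb (NW X (m * fl' X)) (tt X) ∧ Commute v x)
    rw [← nb_NW X hm]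
    exact ⟨fun h => ⟨⟨h.1.1, h.2.1, h.2.2⟩, h.1.2⟩, fun h => ⟨⟨h.1.1, h.2⟩, h.1.2.1, h.1.2.2⟩⟩
  rw [e]
  exact ((t22_NJ X).comp (NW_iso X _)).2 _ (tt_NW X hm) _ hxN fun q => hx q.symm

theorem exists_x : ∃ x ∈ NC X, ¬ Commute x (tt X) := by
  by_contra h
  push Not at h
  obtain ⟨d, hd, c, hc, hdc, -⟩ := (geo_EQ X).refl
  have key : ∀ v ∈ NJ X, Commute v (ee X) := fun v hv => by
    have h1 : fl' X * v * (fl' X)⁻¹ ∈ NC X := by
      show (fl' X)⁻¹ * (fl' X * v * (fl' X)⁻¹) * fl' X ∈ NJ X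
      rwa [show (fl' X)⁻¹ * (fl' X * v * (fl' X)⁻¹) * fl' X = v by group]
    have := h _ h1
    rw [← fl_ee X] at this
    exact (commute_conj_iff _ _ _).1 this
  obtain ⟨v, hv, rfl⟩ := (qj_bij X).surjOn hd
  obtain ⟨u, hu, rfl⟩ := (qj_bij X).surjOn hc
  obtain ⟨m, hm, rfl⟩ := hv
  refine hdc ((qj_commute X ⟨m, hm, rfl⟩ hu).2 ?_)
  have := (commute_conj_iff m _ _).2 (key _ (by simpa using NJ_conj X (inv_mem hm) hu)).symm
  rwa [show m * (m⁻¹ * u * m) * m⁻¹ = u by group] at this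

/-- Nine members and an outside element. -/
structure Frame9 (x g : G) (w : Fin 8 → G) : Prop where
  xsq : x * x = 1
  xtt : ¬ Commute x (tt X)
  wmem : ∀ i, w i ∈ NJ X
  wx : ∀ i, Commute (w i) x
  gmem : g ∈ NJ X
  wc : ∀ i j, i ≠ j → (Commute (w i) (w j) ↔ ¬ Adj8 i j)
  gw : ∀ i, Commute g (w i) ↔ i ≠ 5
  gx : ¬ Commute g x → (g * x) ^ 3 = 1

theorem exists_nine' : ∃ x g w, Frame9 X x g w := by
  classical
  obtain ⟨x, hx, hxt⟩ := exists_x X
  set T := TS X x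
  have hT : Closed T := (NJ_closed X).inter_commute x
  have heeT : ee X ∈ T := ⟨ee_NJ X, (NC_ee X hx).symm⟩
  set S := Fischer.comp T (ee X) with hSdef
  have hmem : ∀ w ∈ S, Mem X w x := by
    rintro w ⟨-, hl⟩
    induction hl with
    | refl => exact mem_ee X hx
    | @tail p q _ hpq ih =>
      by_cases e : q = p
      · exact e.symm ▸ ih
      exact mem_step X ih hpq.1.1 hxt ⟨hpq.2.1.1, e, hpq.2.2⟩ hpq.2.1.2
  have hS : Closed S := Fischer.comp_closed hT _
  have hloc : ∀ w ∈ S, RCo (nb S w) 6 1 := fun w hw => by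
    rw [Fischer.comp_nb hw]
    exact TS_local X hxt hw.1 (hmem w hw)
  have heeS : ee X ∈ S := Fischer.mem_comp_self heeT
  obtain ⟨htw, hfi, hl⟩ := Fischer.refl_component hS (by norm_num) hloc heeS
  have hSS : Fischer.comp S (ee X) = S :=
    Set.Subset.antisymm (Fischer.comp_subset _) fun w hw => ⟨hw, Fischer.comp_link heeS hw.2⟩
  have h7 := (Fischer.step_refl hfi hl (by norm_num)).comp (SIso.qmap (Fischer.comp_closed hS _) htw)
  rw [hSS] at h7
  obtain ⟨Q7, hQ, hd, φ, f⟩ := h7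
  obtain ⟨g₀, hg₀⟩ := tree_isometry hQ (c := 1) one_ne_zero (hd.trans (by decide))
  have hv : ∀ i, Q7 (g₀.symm (nineRoots i)) = 1 := fun i => by
    rw [← hg₀, LinearEquiv.apply_symm_apply, treeForm_coe, nineRoots_val 1 one_ne_zero]
  have e : ∀ u v, polar Q7 u v = polar (treeVal 1) (g₀ u) (g₀ v) := fun u v => by
    simp only [polar, ← treeForm_coe, ← map_add g₀, hg₀]
  choose F hF k hk ek using fun i => f.exists_rep (hv i)
  have hne : ∀ i j, i ≠ j → F i ≠ F j := by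
    intro i j hij q
    have h1 := nineRoots_ne i j hij
    have h2 : k i • g₀.symm (nineRoots i) = k j • g₀.symm (nineRoots j) := by rw [← ek, ← ek, q]
    have h3 : g₀.symm (nineRoots j) = (k j * k i) • g₀.symm (nineRoots i) := by
      rw [← smul_smul, h2, smul_smul, hk j, one_smul]
    have h4 : k j * k i = 1 ∨ k j * k i = -1 :=
      (by decide : ∀ a b : ZMod 3, a * a = 1 → b * b = 1 → a * b = 1 ∨ a * b = -1) _ _ (hk j) (hk i)
    rcases h4 with r | r <;> rw [r] at h3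
    · rw [one_smul] at h3
      exact h1.1 (g₀.symm.injective h3)
    · rw [neg_one_smul, ← map_neg] at h3
      exact h1.2 (g₀.symm.injective h3)
  have hcomm : ∀ i j, i ≠ j → (Commute (F i) (F j) ↔ polar (treeVal 1) (nineRoots i) (nineRoots j) = 0) := by
    intro i j hij
    rw [f.com_iff hS (hF i) (hF j) (hne i j hij), RC.rep_form f (hk j) (ek j), Fischer.pb_symm,
      RC.rep_form f (hk i) (ek i), Fischer.pb_symm, polarBilin_apply_apply, e, LinearEquiv.apply_symm_apply,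
      LinearEquiv.apply_symm_apply]
  set w : Fin 8 → G := fun i => F i.castSucc with hwdef
  set p := F 8 with hpdef
  have hwc : ∀ i j, i ≠ j → (Commute (w i) (w j) ↔ ¬ Adj8 i j) := fun i j hij =>
    (hcomm _ _ fun q => hij (Fin.castSucc_injective _ q)).trans (nineRoots_eight 1 one_ne_zero i j hij)
  have hpw : ∀ i, Commute p (w i) ↔ (i ≠ 1 ∧ i ≠ 2) := fun i =>
    (hcomm _ _ fun q => by have := congrArg Fin.val q; simp at this; omega).trans (nineRoots_last 1 one_ne_zero i)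
  have hwN : ∀ i, w i ∈ NJ X := fun i => (hF _).1.1
  have hpN : p ∈ NJ X := (hF _).1.1
  -- the level below
  have hcm : ∀ y v, y ∈ NJ X → v ∈ NJ X → (Commute (qj X y) (qj X v) ↔ Commute y v) := fun y v hy hv =>
    qj_commute X hy hv
  set W : Fin 8 → ↥(M1 X) ⧸ Z1 X := fun i => qj X (w i) with hWdef
  have hW : ∀ i j, i ≠ j → (Commute (W i) (W j) ↔ ¬ Adj8 i j) := fun i j hij =>
    (hcm _ _ (hwN i) (hwN j)).trans (hwc i j hij)
  have hnbI : ∀ i, i ≠ 0 → Commute (W i) (W 0) → W i ∈ nb (EQ X) (W 0) := by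
    intro i hi hc
    refine ⟨qj_mem X (hwN i), fun q => ?_, hc.symm⟩
    obtain ⟨k, hk⟩ : ∃ k, k ≠ i ∧ k ≠ 0 ∧ ((Adj8 i k ∧ ¬ Adj8 0 k) ∨ (Adj8 0 k ∧ ¬ Adj8 i k)) :=
      (by decide : ∀ i : Fin 8, i ≠ 0 → ∃ k, k ≠ i ∧ k ≠ 0 ∧ ((Adj8 i k ∧ ¬ Adj8 0 k) ∨ (Adj8 0 k ∧ ¬ Adj8 i k))) i hi
    rcases hk.2.2 with ⟨h1, h2⟩ | ⟨h1, h2⟩
    · exact (hW i k hk.1.symm).1 (q ▸ (hW 0 k hk.2.1.symm).2 h2) h1
    · exact (hW 0 k hk.2.1.symm).1 (q ▸ (hW i k hk.1.symm).2 h2) h1
  set u : Fin 5 → ↥(M1 X) ⧸ Z1 X := ![W 5, W 4, W 3, W 6, W 7] with hudef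
  have hu : ∀ i, u i ∈ tri (EQ X) (W 0) (W 1) := by
    intro i
    fin_cases i <;>
      exact ⟨hnbI _ (by decide) ((hW _ _ (by decide)).2 (by decide)), (hW _ _ (by decide)).2 (by decide)⟩
  have huc : ∀ i j, i ≠ j → (Commute (u i) (u j) ↔ ¬ Adj5 i j) := by
    intro i j hij
    fin_cases i <;> fin_cases j <;>
      first
        | exact absurd rfl hij
        | exact (hW _ _ (by decide)).trans (by decide)
  have hc : W 2 ∈ nb (EQ X) (W 0) := hnbI 2 (by decide) ((hW _ _ (by decide)).2 (by decide))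
  have hcu : ∀ j, Commute (W 2) (u j) ↔ j ≠ 2 := by
    intro j
    fin_cases j <;> exact (hW _ _ (by decide)).trans (by decide)
  have hpc : ∀ i, Commute (qj X p) (W i) ↔ (i ≠ 1 ∧ i ≠ 2) := fun i => (hcm _ _ hpN (hwN i)).trans (hpw i)
  have hpa : qj X p ∈ nb (EQ X) (W 0) := by
    refine ⟨qj_mem X hpN, fun q => ?_, ((hpc 0).2 (by decide)).symm⟩
    exact ((hpc 2).1 (q ▸ (hW 0 2 (by decide)).2 (by decide))).2 rfl
  have hpu : ∀ j, Commute (qj X p) (u j) := by
    intro j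
    fin_cases j <;> exact (hpc _).2 (by decide)
  obtain ⟨g', hg', hg'c, hside⟩ := extend22 (geo_EQ X) (type_EQ X).2.1 (type_EQ X).2.2 (qj_mem X (hwN 0))
    (qj_mem X (hwN 1)) (fun q => (hW 0 1 (by decide)).1 q (by decide)) hu huc hc hcu hpa hpu
    fun q => ((hpc 1).1 q).1 rfl
  obtain ⟨g, hg, rfl⟩ := (qj_bij X).surjOn hg'.1.1
  have hxsq : x * x = 1 := by
    have h := NJ_sq X hx
    rw [show (fl' X)⁻¹ * x * fl' X * ((fl' X)⁻¹ * x * fl' X) = (fl' X)⁻¹ * (x * x) * fl' X by group] at h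
    calc x * x = fl' X * ((fl' X)⁻¹ * (x * x) * fl' X) * (fl' X)⁻¹ := by group
      _ = 1 := by rw [h]; group
  have hgx : ¬ Commute g x → (g * x) ^ 3 = 1 := by
    intro hne
    obtain ⟨m, hm, em⟩ := hwN 0
    have hg0 : g ∈ nb (NJ X) (w 0) :=
      ⟨hg, fun q => hg'.1.2.1 (congrArg (qj X) q), (hcm _ _ (hwN 0) hg).1 hg'.1.2.2⟩
    have h1 : g ∈ NW X (m * fl' X) := (mem_NW X hm).2 (by rw [em]; exact mem_nb X (hwN 0) hg0)
    have h2 : x ∈ NW X (m * fl' X) := (mem_NW X hm).2 (by rw [em]; exact hmem _ (hF _))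
    rcases (NW_closed X _).tts.2 g h1 x h2 with q | q
    · refine absurd ?_ hne
      have hgg := NJ_sq X hg
      rw [pow_two] at q
      have := eq_inv_of_mul_eq_one_left q
      rw [mul_inv_rev, inv_eq_of_mul_eq_one_right hgg, inv_eq_of_mul_eq_one_right hxsq] at this
      exact this
    · exact q
  have back : ∀ i, Commute g (w i) ↔ Commute (qj X g) (W i) := fun i => (hcm _ _ hg (hwN i)).symm
  rcases hside with hs | hs
  · refine ⟨x, g, w, hxsq, hxt, hwN, fun i => (hF _).1.2, hg, hwc, fun i => ?_, hgx⟩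
    rw [back]
    constructor
    · intro q e
      subst e
      exact (hs 0).1 q rfl
    · intro hi
      fin_cases i
      · exact hg'.1.2.2.symm
      · exact hg'.2
      · exact hg'c
      · exact (hs 2).2 (by decide)
      · exact (hs 1).2 (by decide)
      · exact absurd rfl hi
      · exact (hs 3).2 (by decide)
      · exact (hs 4).2 (by decide)
  · refine ⟨x, g, w ∘ swap8, hxsq, hxt, fun i => hwN _, fun i => (hF _).1.2, hg,
      fun i j hij => (hwc _ _ (swap8_ne i j hij)).trans (not_congr (swap8_adj i j)), fun i => ?_, hgx⟩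
    show Commute g (w (swap8 i)) ↔ _
    rw [back]
    constructor
    · intro q e
      subst e
      exact (hs 4).1 q rfl
    · intro hi
      fin_cases i
      · exact hg'.1.2.2.symm
      · exact hg'.2
      · exact hg'c
      · exact (hs 2).2 (by decide)
      · exact (hs 3).2 (by decide)
      · exact absurd rfl hi
      · exact (hs 1).2 (by decide)
      · exact (hs 0).2 (by decide)

end CfsgLib.FiLarge.Iso
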