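import Cfsg.Agent.FiLarge.Iso.Cover

/-!
The class around a conjugate of the second small involution: the members commuting with it, and the step of the
relation between a member and an element outside.
-/

set_option autoImplicit false
set_option quotPrecheck false
set_option linter.style.haveILetI false
set_option linter.unusedSectionVars false
set_option maxRecDepth 100000

namespace CfsgLib.FiLarge.Iso

open CfsgLib Subgroup CfsgLib.ThreeT CfsgLib.ThreeT.Prod CfsgLib.FiLarge.Thom CfsgLib.FiLarge.U62 CfsgLib.FiLarge.Cent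
open CfsgLib.FiLarge.Aut (pp pp_mul pp_inv exists_three mem_C_of_fix mem_Mt_of_fix)
open CfsgLib.Fischer (Closed SIso)

variable {G : Type*} [Group G] [Finite G] {z : G} {Q : Subgroup (centralizer ({z} : Set G))} [Q.Normal]
  {D : Dat z Q} (X : Ctx D)

local notation "NA" => normalizer (A0 D : Set G)

/-- An element of the normaliser fixing the first two points is even. -/
theorem mem_M1_of_fix {n : ↥NA} (ha : pp X n ptA = ptA) (hb : pp X n ptB = ptB) : (n : G) ∈ M1 X := by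
  classical
  obtain ⟨n1, n2, n3⟩ := abc_ne
  by_cases hc : pp X n ptC = ptC
  · exact C_le_M1 X (mem_C_of_fix X ha hb hc)
  set x := pp X n ptC with hxdef
  have hxA : x ≠ ptA := fun e => n3 ((pp X n).injective (ha.trans e.symm))
  have hxB : x ≠ ptB := fun e => n2 ((pp X n).injective (hb.trans e.symm))
  obtain ⟨y, -, hy⟩ := Finset.exists_mem_notMem_of_card_lt_card
    (show ({ptA, ptB, ptC, x} : Finset Cfsg.GolayPt).card < (Finset.univ : Finset Cfsg.GolayPt).card from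
      lt_of_le_of_lt Finset.card_le_four (by rw [Finset.card_univ, Golay.card_golayPt]; norm_num))
  simp only [Finset.mem_insert, Finset.mem_singleton, not_or] at hy
  obtain ⟨g, g1, g2, g3, g4⟩ := move_four (a := ptA) (b := ptB) (c := y) (e := ptC) (a' := ptA) (b' := ptB)
    (c' := y) (e' := x) (by simp [n1, n2, n3, Ne.symm hy.1, Ne.symm hy.2.1, hy.2.2.1])
    (by simp [n1, hxA.symm, hxB.symm, Ne.symm hy.1, Ne.symm hy.2.1, hy.2.2.2])
  obtain ⟨h, hh⟩ := X.L.surj g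
  subst hh
  have hhM : (h : G) ∈ Mt X := mem_Mt_of_fix X g1 g2
  have hh1 : (h : G) ∈ M1 X := (mem_M1 X).2 ⟨hhM, eps_of_fix X hhM hy.1 hy.2.1
    (mul_inv_eq_iff_eq_mul.1 (by rw [X.L.conj, g2, g3]))⟩
  have hrest : ((h⁻¹ * n : ↥NA) : G) ∈ X.C := by
    refine mem_C_of_fix X ?_ ?_ ?_
    · rw [pp_mul, ha, pp_inv X g1]
    · rw [pp_mul, hb, pp_inv X g2]
    · rw [pp_mul, ← hxdef, pp_inv X g4]
  have := mul_mem hh1 (C_le_M1 X hrest)
  rwa [← Subgroup.coe_mul, mul_inv_cancel_left] at this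

/-- The label of a pair through the second point. -/
noncomputable abbrev lb (p : Cfsg.GolayPt) : G := X.L.lab ptB p

theorem exists_move {p : Cfsg.GolayPt} (hA : p ≠ ptA) (hB : p ≠ ptB) :
    ∃ n : ↥NA, (n : G) ∈ M1 X ∧ pp X n ptA = ptA ∧ pp X n ptB = ptB ∧ pp X n ptC = p ∧
      (n : G) * ee X * (n : G)⁻¹ = lb X p := by
  obtain ⟨n1, n2, n3⟩ := abc_ne
  obtain ⟨n, h1, h2, h3⟩ := exists_three X n1 n2 n3 n1 (Ne.symm hB) (Ne.symm hA)
  exact ⟨n, mem_M1_of_fix X h1 h2, h1, h2, h3, by rw [X.L.conj, h2, h3]⟩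

theorem lb_NJ {p : Cfsg.GolayPt} (hA : p ≠ ptA) (hB : p ≠ ptB) : lb X p ∈ NJ X :=
  let ⟨_, hn, _, _, _, e⟩ := exists_move X hA hB; ⟨_, hn, e⟩

theorem exists_flip : ∃ n : ↥NA, pp X n ptA = ptC ∧ pp X n ptB = ptB ∧ pp X n ptC = ptA :=
  exists_three X abc_ne.1 abc_ne.2.1 abc_ne.2.2 abc_ne.2.1.symm abc_ne.1.symm abc_ne.2.2.symm

/-- The exchange of the first and the third point. -/
noncomputable def fN : ↥NA := (exists_flip X).choose

/-- The same as an element of the group. -/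
noncomputable abbrev fl' : G := (fN X : G)

theorem fN_A : pp X (fN X) ptA = ptC := (exists_flip X).choose_spec.1

theorem fN_B : pp X (fN X) ptB = ptB := (exists_flip X).choose_spec.2.1

theorem fN_C : pp X (fN X) ptC = ptA := (exists_flip X).choose_spec.2.2

theorem fl_tt : fl' X * tt X * (fl' X)⁻¹ = ee X := by
  rw [X.L.conj, fN_A, fN_B, X.L.symm]

theorem fl_ee : fl' X * ee X * (fl' X)⁻¹ = tt X := by
  rw [X.L.conj, fN_B, fN_C, X.L.symm]

theorem fl_inv_tt : (fl' X)⁻¹ * tt X * fl' X = ee X := by rw [← fl_ee]; group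

theorem fl_inv_ee : (fl' X)⁻¹ * ee X * fl' X = tt X := by rw [← fl_tt]; group

/-- The class around the second small involution. -/
def NC : Set G := {x | (fl' X)⁻¹ * x * fl' X ∈ NJ X}

theorem NC_ee {x : G} (hx : x ∈ NC X) : Commute x (ee X) := by
  have h := (commute_conj_iff (fl' X) _ _).2 (NJ_tt X hx)
  rwa [fl_tt, show fl' X * ((fl' X)⁻¹ * x * fl' X) * (fl' X)⁻¹ = x by group] at h

theorem NC_conj_C {c x : G} (hc : c ∈ X.C) (hx : x ∈ NC X) : c * x * c⁻¹ ∈ NC X := by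
  show (fl' X)⁻¹ * (c * x * c⁻¹) * fl' X ∈ NJ X
  have h : (fl' X)⁻¹ * c * fl' X ∈ X.C := by
    refine X.mem_C.2 ⟨?_, ?_⟩
    · show Commute _ (tt X)
      rw [← fl_inv_ee]
      simpa using (commute_conj_iff (fl' X)⁻¹ _ _).2 (X.C_comm hc X.bc_E)
    · show Commute _ (ee X)
      rw [← fl_inv_tt]
      simpa using (commute_conj_iff (fl' X)⁻¹ _ _).2 (X.C_comm hc X.ab_E)
  rw [show (fl' X)⁻¹ * (c * x * c⁻¹) * fl' X =
    ((fl' X)⁻¹ * c * fl' X) * ((fl' X)⁻¹ * x * fl' X) * ((fl' X)⁻¹ * c * fl' X)⁻¹ by group]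
  exact NJ_conj X (C_le_M1 X h) hx

theorem lb_NC {p : Cfsg.GolayPt} (hB : p ≠ ptB) (hC : p ≠ ptC) : lb X p ∈ NC X := by
  show (fl' X)⁻¹ * lb X p * fl' X ∈ NJ X
  have e : ((fN X)⁻¹ : ↥NA) * lb X p * (((fN X)⁻¹ : ↥NA) : G)⁻¹ = lb X (pp X (fN X)⁻¹ p) := by
    rw [X.L.conj, pp_inv X (fN_B X)]
  rw [Subgroup.coe_inv, inv_inv] at e
  rw [e]
  refine lb_NJ X (fun q => hC ?_) (fun q => hB ?_)
  · exact (pp X (fN X)⁻¹).injective (q.trans (pp_inv X (fN_A X)).symm)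
  · exact (pp X (fN X)⁻¹).injective (q.trans (pp_inv X (fN_B X)).symm)

theorem exists_other : ∃ p : Cfsg.GolayPt, p ≠ ptA ∧ p ≠ ptB ∧ p ≠ ptC := by
  classical
  obtain ⟨p, -, hp⟩ := Finset.exists_mem_notMem_of_card_lt_card
    (show ({ptA, ptB, ptC} : Finset Cfsg.GolayPt).card < (Finset.univ : Finset Cfsg.GolayPt).card from
      lt_of_le_of_lt Finset.card_le_three (by rw [Finset.card_univ, Golay.card_golayPt]; norm_num))
  simp only [Finset.mem_insert, Finset.mem_singleton, not_or] at hp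
  exact ⟨p, hp⟩

theorem lb_ne_ee {p : Cfsg.GolayPt} (hA : p ≠ ptA) (hB : p ≠ ptB) (hC : p ≠ ptC) : lb X p ≠ ee X := fun e =>
  hC (lab_B_inj X hA hB abc_ne.2.2.symm abc_ne.2.1.symm (Or.inl e.symm))

theorem lb_comm (p q : Cfsg.GolayPt) : Commute (lb X p) (lb X q) := X.comm (X.lab_A0 _ _) (X.lab_A0 _ _)

/-- The neighbours of the second involution are one orbit of its centraliser. -/
theorem nb_orbit {p : Cfsg.GolayPt} (hA : p ≠ ptA) (hB : p ≠ ptB) (hC : p ≠ ptC) {v : G}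
    (hv : v ∈ nb (NJ X) (ee X)) : ∃ c ∈ X.C, v = c * lb X p * c⁻¹ := by
  have hu : lb X p ∈ nb (NJ X) (ee X) := ⟨lb_NJ X hA hB, lb_ne_ee X hA hB hC, lb_comm X _ _⟩
  have f := (qj_iso X).nb (ee_NJ X)
  obtain ⟨g, hg, e⟩ := (geo_EQ X).near _ (qj_mem X (ee_NJ X)) _ (f.bij.mapsTo hu) _ (f.bij.mapsTo hv)
  obtain ⟨⟨k, hk⟩, rfl⟩ := QuotientGroup.mk'_surjective (Z1 X) g
  have hkC : k ∈ X.C := de_comm X (g := ⟨k, hk⟩) (by
    have h := commute_hsub hg
    rwa [qj_ee] at h)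
  rw [← qj_eq X hk, ← qj_conj X hk (NJ_M1 X hu.1)] at e
  exact ⟨k, hkC, (qj_bij X).injOn hv.1 (NJ_conj X hk hu.1) e.symm⟩

theorem nb_ee_NC {v : G} (hv : v ∈ nb (NJ X) (ee X)) : v ∈ NC X := by
  obtain ⟨p, hA, hB, hC⟩ := exists_other
  obtain ⟨c, hc, rfl⟩ := nb_orbit X hA hB hC hv
  exact NC_conj_C X hc (lb_NC X hB hC)

/-- The class around a member. -/
def Mem (w x : G) : Prop := ∃ m ∈ M1 X, m * ee X * m⁻¹ = w ∧ m⁻¹ * x * m ∈ NC X

theorem mem_iff {m w x : G} (hm : m ∈ M1 X) (hw : m * ee X * m⁻¹ = w) : Mem X w x ↔ m⁻¹ * x * m ∈ NC X := by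
  refine ⟨?_, fun h => ⟨m, hm, hw, h⟩⟩
  rintro ⟨k, hk, hkw, h⟩
  have hc : m⁻¹ * k ∈ X.C := by
    refine X.mem_C.2 ⟨?_, ?_⟩
    · exact (mem_Mt X).1 (M1_le X (mul_mem (inv_mem hm) hk))
    · show m⁻¹ * k * ee X = ee X * (m⁻¹ * k)
      calc m⁻¹ * k * ee X = m⁻¹ * (k * ee X * k⁻¹) * k := by group
        _ = ee X * (m⁻¹ * k) := by rw [hkw, ← hw]; group
  have := NC_conj_C X hc h
  rwa [show m⁻¹ * k * (k⁻¹ * x * k) * (m⁻¹ * k)⁻¹ = m⁻¹ * x * m by group] at this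

theorem mem_nb {w v : G} (hw : w ∈ NJ X) (hv : v ∈ nb (NJ X) w) : Mem X w v := by
  obtain ⟨m, hm, rfl⟩ := hw
  refine ⟨m, hm, rfl, nb_ee_NC X ⟨?_, fun e => hv.2.1 ?_, ?_⟩⟩
  · simpa using NJ_conj X (inv_mem hm) hv.1
  · rw [← e]; group
  · have h := (commute_conj_iff m⁻¹ _ _).2 hv.2.2
    simpa [mul_assoc] using h

theorem mem_commute {w x : G} (h : Mem X w x) : Commute x w := by
  obtain ⟨m, hm, rfl, h⟩ := h
  have := (commute_conj_iff m _ _).2 (NC_ee X h)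
  rwa [show m * (m⁻¹ * x * m) * m⁻¹ = x by group] at this

theorem mem_ee {x : G} (hx : x ∈ NC X) : Mem X (ee X) x := ⟨1, one_mem _, by group, by simpa using hx⟩

/-- An element in the class of a member, moving the centre to it, lies in the classes of the commuting members it
commutes with. -/
theorem mem_step {w v x : G} (h : Mem X w x) (hw : w ∈ NJ X) (hx : ¬ Commute x (tt X)) (hv : v ∈ nb (NJ X) w)
    (hvx : Commute v x) : Mem X v x := by
  obtain ⟨n1, n2, n3⟩ := abc_ne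
  obtain ⟨m, hm, em, h1⟩ := h
  obtain ⟨p, hA, hB, hC⟩ := exists_other
  have hv1 : m⁻¹ * v * m ∈ nb (NJ X) (ee X) := by
    refine ⟨by simpa using NJ_conj X (inv_mem hm) hv.1, fun e => hv.2.1 ?_, ?_⟩
    · rw [← em, ← e]; group
    · rw [← commute_conj_iff m, em, show m * (m⁻¹ * v * m) * m⁻¹ = v by group]; exact hv.2.2
  obtain ⟨c, hc, ec⟩ := nb_orbit X hA hB hC hv1
  set x2 := c⁻¹ * (m⁻¹ * x * m) * c with hx2
  have h2 : x2 ∈ NC X := by simpa using NC_conj_C X (inv_mem hc) h1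
  have hcomm2 : Commute x2 (lb X p) := by
    rw [← commute_conj_iff c, ← ec, ← commute_conj_iff m, hx2,
      show m * (m⁻¹ * v * m) * m⁻¹ = v by group,
      show m * (c * (c⁻¹ * (m⁻¹ * x * m) * c) * c⁻¹) * m⁻¹ = x by group]
    exact hvx.symm
  have hx2t : ¬ Commute x2 (tt X) := fun q => hx (by
    have hmt : m * c * tt X * (m * c)⁻¹ = tt X := mul_inv_eq_iff_eq_mul.2
      ((mem_Mt X).1 (M1_le X (mul_mem hm (C_le_M1 X hc)))).eq
    have h := (commute_conj_iff (m * c) _ _).2 q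
    rwa [hmt, hx2, show m * c * (c⁻¹ * (m⁻¹ * x * m) * c) * (m * c)⁻¹ = x by group] at h)
  set y := (fl' X)⁻¹ * x2 * fl' X with hy
  set p' := pp X (fN X)⁻¹ p with hp'
  have hp'A : p' ≠ ptA := fun e => hC ((pp X (fN X)⁻¹).injective (e.trans (pp_inv X (fN_A X)).symm))
  have hp'B : p' ≠ ptB := fun e => hB ((pp X (fN X)⁻¹).injective (e.trans (pp_inv X (fN_B X)).symm))
  have epp : pp X (fN X) p' = p := by
    rw [hp', ← pp_mul, mul_inv_cancel]
    show (X.L.φ 1 : Equiv.Perm Cfsg.GolayPt) p = p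
    rw [map_one]; rfl
  have elb : fl' X * lb X p' * (fl' X)⁻¹ = lb X p := by rw [X.L.conj, fN_B, epp]
  obtain ⟨k, hk, kA, kB, kC, ek⟩ := exists_move X hp'A hp'B
  have hy1 : y ∈ nb (NJ X) (lb X p') := by
    refine ⟨h2, fun e => ?_, ?_⟩
    · refine hx2t ?_
      have : x2 = lb X p := by rw [← elb, ← e, hy]; group
      rw [this]
      exact X.comm (X.lab_A0 _ _) (X.lab_A0 _ _)
    · rw [← commute_conj_iff (fl' X), elb, hy, show fl' X * ((fl' X)⁻¹ * x2 * fl' X) * (fl' X)⁻¹ = x2 by group]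
      exact hcomm2.symm
  have hy2 : ((k : G))⁻¹ * y * k ∈ NC X := (mem_iff X hk ek).1 (mem_nb X (lb_NJ X hp'A hp'B) hy1)
  obtain ⟨k', hk', kA', kB', kC', ek'⟩ := exists_move X hA hB
  refine ⟨m * c * k', mul_mem (mul_mem hm (C_le_M1 X hc)) hk', ?_, ?_⟩
  · rw [show m * c * (k' : G) * ee X * (m * c * (k' : G))⁻¹ =
      m * (c * ((k' : G) * ee X * (k' : G)⁻¹) * c⁻¹) * m⁻¹ by group, ek', ← ec]
    group
  · show (fl' X)⁻¹ * ((m * c * k')⁻¹ * x * (m * c * k')) * fl' X ∈ NJ X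
    set u : ↥NA := (fN X)⁻¹ * k'⁻¹ * fN X * k * fN X with hu
    have huM : (u : G) ∈ M1 X := by
      refine mem_M1_of_fix X ?_ ?_
      · rw [hu, pp_mul, pp_mul, pp_mul, pp_mul, fN_A, kC, epp, pp_inv X kC', pp_inv X (fN_A X)]
      · rw [hu, pp_mul, pp_mul, pp_mul, pp_mul, fN_B, kB, fN_B, pp_inv X kB', pp_inv X (fN_B X)]
    have := NJ_conj X huM hy2
    have e : (u : G) * ((fl' X)⁻¹ * ((k : G)⁻¹ * y * k) * fl' X) * (u : G)⁻¹ =
        (fl' X)⁻¹ * ((m * c * k')⁻¹ * x * (m * c * k')) * fl' X := by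
      rw [hy, hx2, hu]
      push_cast
      group
    rwa [e] at this

end CfsgLib.FiLarge.Iso
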