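import Cfsg.Agent.Coset.Fi24Out.Out
import Cfsg.Agent.Coset.PrimConj
import Cfsg.Agent.Spor3T.M23Big

/-!
The presented `Fi23` inside the presented `Fi24`: the letters, and the members inverted by the product of the first
two letters.
-/

set_option autoImplicit false
set_option maxRecDepth 100000
set_option Elab.async false
set_option linter.style.haveILetI false

namespace CfsgLib.FiLarge.Iso

open CfsgLib CfsgLib.ThreeT CfsgLib.ThreeT.Prod
open CfsgLib.Coset (fl ev ev_cons ev_nil follow tget)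

/-- The class of transpositions. -/
noncomputable abbrev DR : Set Cfsg.Spor.Fi23 := conjugatesOf Coset.Fi24.a23

/-- The ten letters. -/
noncomputable abbrev zl (m : Nat) : Cfsg.Spor.Fi23 := fl Coset.Fi23.Lg m

theorem zl_ev (m : Nat) : ev Coset.Fi23.Lg [m] = zl m := by rw [ev_cons, ev_nil, mul_one]

theorem DR_group : Cfsg.IsThreeTranspositionGroup DR := by
  rw [DR, Coset.Fi24.a23_class]
  exact ⟨Coset.Fi23.threeTransp.1,
    fun g x hx => IsConj.trans (show IsConj Coset.Fi23.t x from hx) (isConj_iff.2 ⟨g, rfl⟩),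
    Coset.Fi23.threeTransp.2.2⟩

theorem DR_prim : Cfsg.IsPrimitiveUnderConj DR := by
  rw [DR, Coset.Fi24.a23_class]
  obtain ⟨g, -, hg⟩ := Coset.FischerTypes.nwc23
  exact Coset.primitive_of_isCoatom (isConj_iff.2 ⟨g, rfl⟩) hg
    (Coset.Fi23.centralizer_t.symm ▸ Coset.Fi23.H_isCoatom)

theorem DR_type : Cfsg.IsOfTypeM23 Cfsg.Spor.Fi23 DR := by
  rw [DR, Coset.Fi24.a23_class]; exact Coset.FischerTypes.type23

theorem finite23 : Finite Cfsg.Spor.Fi23 := Coset.Fi23.card_le.1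

theorem exists_pt : haveI := finite23; ∃ d, Point23 DR d := by
  haveI := finite23
  exact exists_point23 DR_group DR_prim DR_type

theorem DR_conj {t : Cfsg.Spor.Fi23} (ht : t ∈ DR) (g : Cfsg.Spor.Fi23) : g * t * g⁻¹ ∈ DR :=
  IsConj.trans (show IsConj Coset.Fi24.a23 t from ht) (isConj_iff.2 ⟨g, rfl⟩)

theorem DR_sq {t : Cfsg.Spor.Fi23} (ht : t ∈ DR) : t * t = 1 := by
  rw [← pow_two, ← DR_group.1.1 t ht, pow_orderOf_eq_one]

theorem word_ne {u v : List Nat} (hu : ∀ l ∈ u, l < Coset.Fi23.Lg.length) (hv : ∀ l ∈ v, l < Coset.Fi23.Lg.length)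
    {b : Nat} (hb : b < 31671)
    (h : Nat.beq (follow (tget Coset.Fi23.Top.Tb) b u) (follow (tget Coset.Fi23.Top.Tb) b v) = false) :
    ev Coset.Fi23.Lg u ≠ ev Coset.Fi23.Lg v := by
  intro e
  have h1 := Coset.Fi23.matches_ρ.follow_eq _ (⟨b, hb⟩ : Fin 31671) hu
  rw [e, Coset.Fi23.matches_ρ.follow_eq _ (⟨b, hb⟩ : Fin 31671) hv] at h1
  simp only at h1
  rw [h1] at h
  simp at h

/-- Two letters are different. -/
theorem zl_ne {m n : Nat} (hm : m < 10) (hn : n < 10)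
    (h : ([0, 1, 224, 1640, 2].any fun b =>
      !(Nat.beq (follow (tget Coset.Fi23.Top.Tb) b [m]) (follow (tget Coset.Fi23.Top.Tb) b [n]))) = true) :
    zl m ≠ zl n := by
  obtain ⟨b, hb, hne⟩ := List.any_eq_true.1 h
  rw [← zl_ev, ← zl_ev]
  refine word_ne (b := b) (by simpa [Coset.Fi23.len_Lg] using hm) (by simpa [Coset.Fi23.len_Lg] using hn)
    ((by decide : ∀ b ∈ [0, 1, 224, 1640, 2], b < 31671) b hb) (by simpa using hne)

theorem zl_cube {m n : Nat} (h : [m, n, m, n, m, n] ∈ Coset.Fi23.rels) : (zl m * zl n) ^ 3 = 1 := by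
  have h1 := Coset.Fi23.ev_rels _ h
  simp only [ev_cons, ev_nil, mul_one] at h1
  rw [← h1]
  simp only [pow_succ, pow_zero, one_mul, mul_assoc]

theorem zl_comm {m n : Nat} (h : [m, n, m, n] ∈ Coset.Fi23.rels) : Commute (zl m) (zl n) := by
  have h1 := Coset.Fi23.ev_rels _ h
  simp only [ev_cons, ev_nil, mul_one] at h1
  have := eq_inv_of_mul_eq_one_left ((mul_assoc _ _ _).trans h1)
  rw [mul_inv_rev, inv_eq_of_mul_eq_one_right (Coset.Fi23.sq_all m),
    inv_eq_of_mul_eq_one_right (Coset.Fi23.sq_all n)] at this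
  exact this

theorem zl_mem : ∀ m < 10, zl m ∈ DR := by
  have step : ∀ x y : Nat, [x, y, x, y, x, y] ∈ Coset.Fi23.rels → zl x ∈ DR → zl y ∈ DR := fun x y h hx =>
    IsConj.trans (show IsConj Coset.Fi24.a23 (zl x) from hx)
      (Coset.Fi24.conj_of_braid (Coset.Fi23.sq_all x) (Coset.Fi23.sq_all y) (zl_cube h))
  have h0 : zl 0 ∈ DR := IsConj.refl _
  have h1 := step 0 1 (by decide +kernel) h0
  have h2 := step 1 2 (by decide +kernel) h1
  have h3 := step 2 3 (by decide +kernel) h2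
  have h4 := step 3 4 (by decide +kernel) h3
  have h5 := step 4 5 (by decide +kernel) h4
  have h6 := step 5 6 (by decide +kernel) h5
  have h7 := step 6 7 (by decide +kernel) h6
  have h8 := step 3 8 (by decide +kernel) h3
  have h9 := step 8 9 (by decide +kernel) h8
  intro m hm
  interval_cases m <;> assumption

/-- The letter `j`. -/
noncomputable abbrev jR : Cfsg.Spor.Fi23 := zl 7

/-- The letter `i`. -/
noncomputable abbrev iR : Cfsg.Spor.Fi23 := zl 9

theorem jR_mem : jR ∈ DR := zl_mem 7 (by norm_num)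

theorem jR_nb : ∀ m ∈ [0, 1, 2, 3, 4, 5, 8, 9], zl m ∈ nb DR jR := by
  intro m hm
  refine ⟨zl_mem m ((by decide : ∀ m ∈ [0, 1, 2, 3, 4, 5, 8, 9], m < 10) m hm), ?_, ?_⟩
  · simp only [List.mem_cons, List.not_mem_nil, or_false] at hm
    rcases hm with rfl | rfl | rfl | rfl | rfl | rfl | rfl | rfl <;>
      exact zl_ne (by norm_num) (by norm_num) (by decide +kernel)
  · simp only [List.mem_cons, List.not_mem_nil, or_false] at hm
    rcases hm with rfl | rfl | rfl | rfl | rfl | rfl | rfl | rfl <;>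
      first
        | exact zl_comm (by decide +kernel)
        | exact (zl_comm (by decide +kernel)).symm

theorem iR_nb : zl 6 ∈ nb DR iR ∧ jR ∈ nb DR iR :=
  ⟨⟨zl_mem 6 (by norm_num), zl_ne (by norm_num) (by norm_num) (by decide +kernel),
      (zl_comm (by decide +kernel) : Commute (zl 6) iR).symm⟩,
    ⟨jR_mem, zl_ne (by norm_num) (by norm_num) (by decide +kernel), (zl_comm (by decide +kernel) : Commute jR iR).symm⟩⟩

/-! ### Inside `Fi24` -/

/-- The outer transposition. -/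
noncomputable abbrev s24 : Cfsg.Spor.Fi24 := Coset.Fi24.s

/-- The copy of `Fi23`. -/
noncomputable def pe : Cfsg.Spor.Fi23 →* Cfsg.Spor.Fi24 :=
  Coset.Fi24.frame.Ψ.comp (MonoidHom.inl Cfsg.Spor.Fi23 (Multiplicative (ZMod 2)))

/-- The transposition of a member. -/
noncomputable def pt (z : Cfsg.Spor.Fi23) : Cfsg.Spor.Fi24 := Coset.Fi24.frame.Ψ (z, Coset.Fi24.tau)

theorem pe_injective : Function.Injective pe := fun a b h =>
  congrArg Prod.fst (Coset.Fi24.Ψ_injective (h : Coset.Fi24.frame.Ψ (a, 1) = Coset.Fi24.frame.Ψ (b, 1)))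

theorem pe_eq (z : Cfsg.Spor.Fi23) : pe z = s24 * pt z := by
  show Coset.Fi24.frame.Ψ (z, 1) = Coset.Fi24.s * Coset.Fi24.frame.Ψ (z, Coset.Fi24.tau)
  rw [← Coset.Fi24.Ψ_tau, ← map_mul, Prod.mk_mul_mk, one_mul, Coset.Fi24.tau_sq]

theorem pe_comm (z : Cfsg.Spor.Fi23) : Commute s24 (pe z) := by
  show Commute Coset.Fi24.s (Coset.Fi24.frame.Ψ (z, 1))
  rw [← Coset.Fi24.Ψ_tau]
  exact Commute.map (Prod.ext (by simp) (by simp) : Commute ((1, Coset.Fi24.tau) : Coset.Fi24.A) (z, 1)) _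

theorem pt_eq (z : Cfsg.Spor.Fi23) : pt z = s24 * pe z := by
  rw [pe_eq, ← mul_assoc, Coset.Fi24.s_sq, one_mul]

theorem pt_mem {z : Cfsg.Spor.Fi23} (hz : z ∈ DR) : pt z ∈ nb (conjugatesOf s24) s24 :=
  Coset.Fi24.nb_eq.symm.subset (Set.mem_image_of_mem (fun z => Coset.Fi24.frame.Ψ (z, Coset.Fi24.tau)) hz)

theorem pt_surj {y : Cfsg.Spor.Fi24} (hy : y ∈ nb (conjugatesOf s24) s24) : ∃ z ∈ DR, pt z = y := by
  obtain ⟨z, hz, e⟩ := Coset.Fi24.nb_eq.subset hy
  exact ⟨z, hz, e⟩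

theorem pt_injective : Function.Injective pt := fun a b h => congrArg Prod.fst (Coset.Fi24.Ψ_injective h)

theorem pt_commute_iff {a b : Cfsg.Spor.Fi23} : Commute (pt a) (pt b) ↔ Commute a b := by
  constructor
  · intro h
    have h1 := Coset.Fi24.Ψ_injective ((map_mul Coset.Fi24.frame.Ψ _ _).trans (h.eq.trans (map_mul _ _ _).symm))
    exact congrArg Prod.fst h1
  · intro h
    exact Commute.map (Prod.ext h.eq (mul_comm _ _) : Commute ((a, Coset.Fi24.tau) : Coset.Fi24.A) (b, Coset.Fi24.tau)) _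

theorem pt_zl {m : Nat} (hm : m < 10) : pt (zl m) = fl Coset.Fi24.Lg (m + 2) := by
  rw [pt, ← Coset.Fi24.fl_la_add hm, Coset.Fi24.frame.Ψ_fl (by omega)]

/-- The letter `j` of `Fi24`. -/
noncomputable abbrev x9 : Cfsg.Spor.Fi24 := pt jR

theorem x9_nb : x9 ∈ nb (conjugatesOf s24) s24 := pt_mem jR_mem

theorem kk_class : Coset.Fi24.kk ∈ conjugatesOf s24 := Coset.Fi24.conj_letter 1 (by norm_num)

theorem kk_comm {m : Nat} (h1 : 1 ≤ m) (hm : m < 10) : Commute Coset.Fi24.kk (pt (zl m)) := by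
  rw [pt_zl hm]
  have key : ∀ n < 12, 3 ≤ n → [1, n, 1, n] ∈ Coset.Fi24.rels0 := by decide +kernel
  have h := Coset.Fi24.frame.rel _ (key (m + 2) (by omega) (by omega))
  simp only [ev_cons, ev_nil, mul_one] at h
  have := eq_inv_of_mul_eq_one_left ((mul_assoc _ _ _).trans h)
  rw [mul_inv_rev, inv_eq_of_mul_eq_one_right (Coset.Fi24.frame.sq 1),
    inv_eq_of_mul_eq_one_right (Coset.Fi24.frame.sq (m + 2))] at this
  exact this

theorem kk_not_comm_a : ¬ Commute Coset.Fi24.kk (pt (zl 0)) := by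
  rw [pt_zl (by norm_num : 0 < 10)]
  intro hc
  have h := Coset.Fi24.frame.rel _ (by decide +kernel : [1, 2, 1, 2, 1, 2] ∈ Coset.Fi24.rels0)
  simp only [ev_cons, ev_nil, mul_one] at h
  have hk : Coset.Fi24.kk * Coset.Fi24.kk = 1 := Coset.Fi24.frame.sq 1
  have ha : fl Coset.Fi24.Lg 2 * fl Coset.Fi24.Lg 2 = 1 := Coset.Fi24.frame.sq 2
  have e : (Coset.Fi24.kk * fl Coset.Fi24.Lg 2) ^ 3 = 1 := by
    rw [← h]
    simp only [Coset.Fi24.kk, pow_succ, pow_zero, one_mul, mul_assoc]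
  rw [hc.mul_pow, pow_succ, pow_two, hk, one_mul, pow_succ, pow_two, ha, one_mul] at e
  have e' : Coset.Fi24.kk = fl Coset.Fi24.Lg 2 :=
    calc Coset.Fi24.kk = Coset.Fi24.kk * (fl Coset.Fi24.Lg 2 * fl Coset.Fi24.Lg 2) := by rw [ha, mul_one]
      _ = fl Coset.Fi24.Lg 2 := by rw [← mul_assoc, e, one_mul]
  exact Coset.Fi24.k_not_comm ((e' ▸ Coset.Fi24.two_comm.symm) : Commute Coset.Fi24.kk s24)

/-! ### The swap of two commuting transpositions -/

theorem exists_swap : ∃ S : Cfsg.Spor.Fi24, S * s24 * S⁻¹ = x9 ∧ S * x9 * S⁻¹ = s24 := by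
  haveI := Coset.Fi24.finite_group
  obtain ⟨d, P⟩ := Coset.Fi24.exists_point
  exact Prod.pair_conj P.base (IsConj.refl _) x9_nb x9_nb.1 ⟨IsConj.refl _, x9_nb.2.1.symm, x9_nb.2.2.symm⟩

/-- The swap. -/
noncomputable def Sw : Cfsg.Spor.Fi24 := exists_swap.choose

theorem Sw_s : Sw * s24 * Sw⁻¹ = x9 := exists_swap.choose_spec.1

theorem Sw_x9 : Sw * x9 * Sw⁻¹ = s24 := exists_swap.choose_spec.2

theorem Sw_inv : Sw⁻¹ * s24 * Sw⁻¹⁻¹ = x9 ∧ Sw⁻¹ * x9 * Sw⁻¹⁻¹ = s24 := by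
  constructor
  · rw [← Sw_x9]; group
  · rw [← Sw_s]; group

theorem centr_range {g : Cfsg.Spor.Fi24} (h : Commute s24 g) (hs : Coset.Fi24.sgn g = 1) : ∃ z, pe z = g := by
  have hg : g ∈ Coset.Fi24.frame.Ψ.range := by
    rw [Coset.Fi24.frame.range_Ψ, ← Coset.Fi24.centralizer_s]
    exact Subgroup.mem_centralizer_singleton_iff.2 h.eq.symm
  obtain ⟨⟨z, e⟩, rfl⟩ := hg
  rw [Coset.Fi24.sgn_Ψ] at hs
  simp only at hs
  subst hs
  exact ⟨z, rfl⟩

theorem swap_cent {S : Cfsg.Spor.Fi24} (h1 : S * s24 * S⁻¹ = x9) (h2 : S * x9 * S⁻¹ = s24) {c : Cfsg.Spor.Fi23}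
    (hc : Commute c jR) : ∃ c', Commute c' jR ∧ pe c' = S * pe c * S⁻¹ := by
  have hs9 : Commute (pe c) x9 := by
    rw [x9, pt_eq]
    exact (pe_comm c).symm.mul_right (hc.map pe)
  have h3 : Commute s24 (S * pe c * S⁻¹) := by
    rw [← h2]
    exact ((commute_conj_iff S _ _).2 hs9).symm
  have h4 : Commute x9 (S * pe c * S⁻¹) := by
    rw [← h1]
    exact (commute_conj_iff S _ _).2 (pe_comm c)
  have hsg : Coset.Fi24.sgn (S * pe c * S⁻¹) = 1 := by
    rw [map_mul, map_mul, map_inv, show Coset.Fi24.sgn (pe c) = 1 from Coset.Fi24.sgn_Ψ (c, 1), mul_one,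
      mul_inv_cancel]
  obtain ⟨c', hc'⟩ := centr_range h3 hsg
  refine ⟨c', pe_injective ((map_mul pe _ _).trans (Eq.trans ?_ (map_mul pe _ _).symm)), hc'⟩
  rw [hc', show pe jR = s24 * x9 from pe_eq jR]
  exact (h3.mul_left h4).eq.symm

/-- The automorphism of the centraliser of `j` induced by the swap. -/
theorem exists_al : ∃ al : ↥(Subgroup.centralizer ({jR} : Set Cfsg.Spor.Fi23)) ≃*
    ↥(Subgroup.centralizer ({jR} : Set Cfsg.Spor.Fi23)), ∀ c, pe (al c) = Sw * pe c * Sw⁻¹ := by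
  have hm : ∀ {c}, c ∈ Subgroup.centralizer ({jR} : Set Cfsg.Spor.Fi23) ↔ Commute c jR := fun {c} =>
    Subgroup.mem_centralizer_singleton_iff
  choose f hf hf' using fun c : ↥(Subgroup.centralizer ({jR} : Set Cfsg.Spor.Fi23)) =>
    swap_cent Sw_s Sw_x9 (hm.1 c.2)
  choose g hg hg' using fun c : ↥(Subgroup.centralizer ({jR} : Set Cfsg.Spor.Fi23)) =>
    swap_cent Sw_inv.1 Sw_inv.2 (hm.1 c.2)
  refine ⟨{ toFun := fun c => ⟨f c, hm.2 (hf c)⟩
            invFun := fun c => ⟨g c, hm.2 (hg c)⟩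
            left_inv := fun c => Subtype.ext (pe_injective ?_)
            right_inv := fun c => Subtype.ext (pe_injective ?_)
            map_mul' := fun a b => Subtype.ext (pe_injective ?_) }, fun c => hf' c⟩
  · show pe (g ⟨f c, _⟩) = pe c
    rw [hg', show pe ((⟨f c, hm.2 (hf c)⟩ : ↥(Subgroup.centralizer ({jR} : Set Cfsg.Spor.Fi23))) :
      Cfsg.Spor.Fi23) = pe (f c) from rfl, hf']
    group
  · show pe (f ⟨g c, _⟩) = pe c
    rw [hf', show pe ((⟨g c, hm.2 (hg c)⟩ : ↥(Subgroup.centralizer ({jR} : Set Cfsg.Spor.Fi23))) :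
      Cfsg.Spor.Fi23) = pe (g c) from rfl, hg']
    group
  · show pe (f (a * b)) = pe (f a * f b)
    rw [hf', map_mul, hf', hf', Subgroup.coe_mul, map_mul]
    group

/-- The automorphism. -/
noncomputable def al : ↥(Subgroup.centralizer ({jR} : Set Cfsg.Spor.Fi23)) ≃*
    ↥(Subgroup.centralizer ({jR} : Set Cfsg.Spor.Fi23)) := exists_al.choose

theorem al_spec (c : ↥(Subgroup.centralizer ({jR} : Set Cfsg.Spor.Fi23))) : pe (al c) = Sw * pe c * Sw⁻¹ :=
  exists_al.choose_spec c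

/-- The member of the centraliser. -/
def inC {c : Cfsg.Spor.Fi23} (h : Commute jR c) : ↥(Subgroup.centralizer ({jR} : Set Cfsg.Spor.Fi23)) :=
  ⟨c, Subgroup.mem_centralizer_singleton_iff.2 h.eq.symm⟩

theorem al_j : (al (inC (Commute.refl jR)) : Cfsg.Spor.Fi23) = jR := pe_injective (by
  rw [al_spec, show pe (inC (Commute.refl jR) : Cfsg.Spor.Fi23) = pe jR from rfl, pe_eq]
  rw [show Sw * (s24 * pt jR) * Sw⁻¹ = Sw * s24 * Sw⁻¹ * (Sw * x9 * Sw⁻¹) by group, Sw_s, Sw_x9]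
  exact x9_nb.2.2.eq.symm)

/-- The image of a neighbour is the translate of the neighbour given by the swap. -/
theorem al_nb {t u : Cfsg.Spor.Fi23} (ht : Commute jR t) (e : Sw * pt t * Sw⁻¹ = pt u) :
    (al (inC ht) : Cfsg.Spor.Fi23) = jR * u := by
  refine pe_injective ?_
  rw [al_spec, show pe (inC ht : Cfsg.Spor.Fi23) = pe t from rfl, pe_eq, map_mul, pe_eq, pe_eq]
  rw [show Sw * (s24 * pt t) * Sw⁻¹ = Sw * s24 * Sw⁻¹ * (Sw * pt t * Sw⁻¹) by group, Sw_s, e]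
  rw [show s24 * pt jR * (s24 * pt u) = s24 * (pt jR * s24) * pt u by group, x9_nb.2.2.eq.symm,
    ← mul_assoc, Coset.Fi24.s_sq, one_mul]

theorem swap_nb {S : Cfsg.Spor.Fi24} (h1 : S * s24 * S⁻¹ = x9) (h2 : S * x9 * S⁻¹ = s24) {t : Cfsg.Spor.Fi23}
    (ht : t ∈ nb DR jR) : ∃ u ∈ nb DR jR, S * pt t * S⁻¹ = pt u := by
  have h3 := pt_mem ht.1
  have htj : pt t ≠ x9 := fun e => ht.2.1 (pt_injective e)
  have hc : Commute (pt t) x9 := pt_commute_iff.2 ht.2.2.symm
  have hm : S * pt t * S⁻¹ ∈ nb (conjugatesOf s24) s24 := by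
    refine ⟨IsConj.trans (show IsConj s24 (pt t) from h3.1) (isConj_iff.2 ⟨S, rfl⟩), fun e => htj ?_, ?_⟩
    · exact mul_left_cancel (mul_right_cancel (e.trans h2.symm))
    · conv_lhs => rw [← h2]
      exact ((commute_conj_iff S _ _).2 hc).symm
  obtain ⟨u, hu, e⟩ := pt_surj hm
  refine ⟨u, ⟨hu, fun q => ?_, ?_⟩, e.symm⟩
  · subst q
    exact h3.2.1 (mul_left_cancel (mul_right_cancel (e.symm.trans h1.symm)))
  · refine pt_commute_iff.1 ?_
    rw [e, show pt jR = S * s24 * S⁻¹ from h1.symm]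
    exact (commute_conj_iff S _ _).2 h3.2.2

theorem al_maps_nb {t : Cfsg.Spor.Fi23} (ht : t ∈ nb DR jR) :
    ∃ u ∈ nb DR jR, (al (inC ht.2.2) : Cfsg.Spor.Fi23) = jR * u := by
  obtain ⟨u, hu, e⟩ := swap_nb Sw_s Sw_x9 ht
  exact ⟨u, hu, al_nb ht.2.2 e⟩

/-! ### The inverted members -/

/-- For a member `x` not commuting with `s` and commuting with `j`: the members of the neighbourhood of `j` commuting
with `x` correspond to the common neighbours of `j` and some far member. -/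
theorem exists_far_y {x : Cfsg.Spor.Fi24} (hx : x ∈ conjugatesOf s24) (hs : ¬ Commute s24 x)
    (h9 : Commute x9 x) : ∃ y ∈ DR, ¬ Commute jR y ∧ ∀ t ∈ nb DR jR, Commute x (pt t) ↔
      ∃ t', ∃ ht : t' ∈ nb DR jR, Commute t' y ∧ t = jR * (al (inC ht.2.2) : Cfsg.Spor.Fi23) := by
  have hs2 : s24⁻¹ = s24 := inv_eq_of_mul_eq_one_right Coset.Fi24.s_sq
  set q := s24 * x * s24 with hq
  have hq' : q = s24 * x * s24⁻¹ := by rw [hs2]
  have hqc : q ∈ conjugatesOf s24 := by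
    rw [hq']; exact IsConj.trans (show IsConj s24 x from hx) (isConj_iff.2 ⟨s24, rfl⟩)
  have h9q : Commute x9 q := by
    have h := x9_nb.2.2.symm
    exact (h.mul_right h9).mul_right h
  have hsq : ¬ Commute s24 q := by
    intro h
    refine hs ?_
    have := (commute_conj_iff s24 s24 x).1 (by rwa [show s24 * s24 * s24⁻¹ = s24 by group, ← hq'])
    exact this
  set x0 := Sw⁻¹ * q * Sw⁻¹⁻¹ with hx0
  obtain ⟨i1, i2⟩ := Sw_inv
  have hm : x0 ∈ nb (conjugatesOf s24) s24 := by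
    refine ⟨IsConj.trans (show IsConj s24 q from hqc) (isConj_iff.2 ⟨_, rfl⟩), fun e => ?_, ?_⟩
    · have e' : q = x9 := mul_left_cancel (mul_right_cancel (e.trans i2.symm))
      exact hsq (e' ▸ x9_nb.2.2)
    · conv_lhs => rw [← i2]
      exact (commute_conj_iff _ _ _).2 h9q
  obtain ⟨y, hy, ey⟩ := pt_surj hm
  refine ⟨y, hy, fun h => hsq ?_, fun t ht => ?_⟩
  · have h1 := pt_commute_iff.2 h
    rw [ey, show pt jR = Sw⁻¹ * s24 * Sw⁻¹⁻¹ from i1.symm] at h1
    exact (commute_conj_iff _ _ _).1 h1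
  obtain ⟨u, hu, eu⟩ := swap_nb i1 i2 ht
  have eu' : Sw * pt u * Sw⁻¹ = pt t := by rw [← eu]; group
  have key : Commute x (pt t) ↔ Commute u y := by
    rw [← pt_commute_iff (a := u), ey, ← eu, commute_conj_iff]
    have h1 := (pt_mem ht.1).2.2
    constructor
    · intro h; exact ((h1.symm.mul_right h.symm).mul_right h1.symm)
    · intro h
      have h2 : Commute (pt t) (s24 * q * s24) := (h1.symm.mul_right h).mul_right h1.symm
      rwa [hq, show s24 * (s24 * x * s24) * s24 = (s24 * s24) * x * (s24 * s24) by group, Coset.Fi24.s_sq,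
        one_mul, mul_one, Commute.symm_iff] at h2
  have hjj : jR * jR = 1 := DR_sq jR_mem
  rw [key]
  constructor
  · intro h
    refine ⟨u, hu, h, ?_⟩
    rw [al_nb hu.2.2 eu', ← mul_assoc, hjj, one_mul]
  · rintro ⟨t', ht', hc, e⟩
    obtain ⟨u', hu', e'⟩ := swap_nb Sw_s Sw_x9 ht'
    rw [al_nb ht'.2.2 e', ← mul_assoc, hjj, one_mul] at e
    subst e
    rwa [pt_injective (mul_left_cancel (mul_right_cancel (eu'.trans e'.symm)))]

end CfsgLib.FiLarge.Iso
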