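import Cfsg.Agent.FiLarge.Iso.Growth
import Cfsg.Agent.FiLarge.Iso.Flag

/-!
The nine members and the outside element give a copy of the presented `Fi23`, with the element interchanging the two
classes at its centre.
-/

set_option autoImplicit false
set_option quotPrecheck false
set_option linter.style.haveILetI false
set_option linter.unusedSectionVars false
set_option maxRecDepth 100000

namespace CfsgLib.FiLarge.Iso

open CfsgLib Subgroup CfsgLib.ThreeT CfsgLib.ThreeT.Prod CfsgLib.FiLarge.Thom CfsgLib.FiLarge.U62 CfsgLib.FiLarge.Cent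
open CfsgLib.Coset (ev fl ev_cons ev_nil ev_append powWord pairWord genW)
open scoped commutatorElement

variable {G : Type*} [Group G] [Finite G] {z : G} {Q : Subgroup (centralizer ({z} : Set G))} [Q.Normal]
  {D : Dat z Q} (X : Ctx D)

/-- A subgroup of the even part covering the quotient is the whole of it. -/
theorem eq_top_of_cover {S : Subgroup ↥(M1 X)} (h : S.map (QuotientGroup.mk' (Z1 X)) = ⊤) : S = ⊤ := by
  have hperf := (M1_quasisimple X).1.1.commutator_eq_top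
  have hz : ∀ u, ∃ s ∈ S, s⁻¹ * u ∈ Subgroup.center ↥(M1 X) := fun u => by
    obtain ⟨s, hs, e⟩ : QuotientGroup.mk' (Z1 X) u ∈ S.map (QuotientGroup.mk' (Z1 X)) := h ▸ mem_top _
    exact ⟨s, hs, Z1_le X (QuotientGroup.eq.1 e)⟩
  rw [eq_top_iff, ← hperf, commutator_def, Subgroup.commutator_le]
  intro u _ v _
  obtain ⟨s, hs, hu⟩ := hz u
  obtain ⟨t, ht, hv⟩ := hz v
  have e1 : ⁅u, v⁆ = ⁅s, t⁆ := by
    rw [Subgroup.mem_center_iff] at hu hv
    rw [show u = s * (s⁻¹ * u) by group, show v = t * (t⁻¹ * v) by group]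
    set a := s⁻¹ * u
    set b := t⁻¹ * v
    simp only [commutatorElement_def, mul_inv_rev]
    calc s * a * (t * b) * (a⁻¹ * s⁻¹) * (b⁻¹ * t⁻¹)
        = s * (a * t) * (b * (a⁻¹ * s⁻¹)) * (b⁻¹ * t⁻¹) := by group
      _ = s * (t * a) * ((a⁻¹ * s⁻¹) * b) * (b⁻¹ * t⁻¹) := by rw [hu t, hv (a⁻¹ * s⁻¹)]
      _ = s * t * s⁻¹ * t⁻¹ := by group
  rw [e1]
  exact S.mul_mem (S.mul_mem (S.mul_mem hs ht) (S.inv_mem hs)) (S.inv_mem ht)

variable {X} {x g : G} {w : Fin 8 → G} (F : Frame9 X x g w)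

/-- The ten elements. -/
def ten (x g : G) (w : Fin 8 → G) : List G := [w 0, w 1, w 2, w 3, w 4, w 5, g, x, w 6, w 7]

/-- The nine members. -/
def nineL (g : G) (w : Fin 8 → G) : List G := [w 0, w 1, w 2, w 3, w 4, w 5, g, w 6, w 7]

include F

theorem exists_theta : ∃ θ : Cfsg.Spor.Fi23 →* G, Function.Injective θ ∧
    (∀ k < 9, θ (zl (to23 k)) ∈ NJ X) ∧ (genW Coset.Fi23.Lg Coset.Fi23.Top.subs).map θ = M1 X := by
  classical
  have hwne : ∀ i j, i ≠ j → w i ≠ w j := by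
    intro i j hij q
    obtain ⟨k, hk⟩ : ∃ k, (k ≠ i ∧ k ≠ j ∧ ((Adj8 i k ∧ ¬ Adj8 j k) ∨ (Adj8 j k ∧ ¬ Adj8 i k))) ∨ Adj8 i j :=
      (by decide : ∀ i j : Fin 8, i ≠ j →
        ∃ k, (k ≠ i ∧ k ≠ j ∧ ((Adj8 i k ∧ ¬ Adj8 j k) ∨ (Adj8 j k ∧ ¬ Adj8 i k))) ∨ Adj8 i j) i j hij
    rcases hk with ⟨hki, hkj, ⟨h1, h2⟩ | ⟨h1, h2⟩⟩ | hk
    · exact (F.wc i k hki.symm).1 (q ▸ (F.wc j k hkj.symm).2 h2) h1
    · exact (F.wc j k hkj.symm).1 (q ▸ (F.wc i k hki.symm).2 h2) h1
    · exact (F.wc i j hij).1 (q ▸ Commute.refl (w i)) hk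
  have hgne : ∀ i, g ≠ w i := fun i q => by
    by_cases e : i = 4
    · exact (F.wc 4 3 (by decide)).1 (e ▸ q ▸ (F.gw 3).2 (by decide)) (by decide)
    · by_cases e5 : i = 5
      · exact (F.gw 5).1 (by rw [q, e5]) rfl
      · exact (F.gw 5).1 (q ▸ (F.wc i 5 e5).2 ((by decide : ∀ i : Fin 8, i ≠ 4 → i ≠ 5 → ¬ Adj8 i 5) i e e5)) rfl
  have hcm : ∀ {y v : G}, y ∈ NJ X → v ∈ NJ X → (Commute (qj X y) (qj X v) ↔ Commute y v) := fun hy hv =>
    qj_commute X hy hv
  have hinj : ∀ {y v : G}, y ∈ NJ X → v ∈ NJ X → qj X y = qj X v → y = v := fun hy hv q => (qj_bij X).injOn hy hv q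
  have cw : ∀ i j, i ≠ j → (Commute (qj X (w i)) (qj X (w j)) ↔ ¬ Adj8 i j) := fun i j hij =>
    (hcm (F.wmem i) (F.wmem j)).trans (F.wc i j hij)
  have cg : ∀ i, Commute (qj X g) (qj X (w i)) ↔ i ≠ 5 := fun i => (hcm F.gmem (F.wmem i)).trans (F.gw i)
  have cg' : ∀ i, Commute (qj X (w i)) (qj X g) ↔ i ≠ 5 := fun i =>
    ⟨fun q => (cg i).1 q.symm, fun q => ((cg i).2 q).symm⟩
  have hnb : ∀ i, i ≠ 0 → i ≠ 1 → qj X (w i) ∈ nb (EQ X) (qj X (w 0)) := fun i h0 h1 =>
    ⟨qj_mem X (F.wmem i), fun q => hwne i 0 h0 (hinj (F.wmem i) (F.wmem 0) q),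
      (cw 0 i h0.symm).2 ((by decide : ∀ i : Fin 8, i ≠ 0 → i ≠ 1 → ¬ Adj8 0 i) i h0 h1)⟩
  have hgn : qj X g ∈ nb (EQ X) (qj X (w 0)) :=
    ⟨qj_mem X F.gmem, fun q => hgne 0 (hinj F.gmem (F.wmem 0) q), (cg' 0).2 (by decide)⟩
  set V : Fin 6 → ↥(M1 X) ⧸ Z1 X :=
    ![qj X g, qj X (w 5), qj X (w 4), qj X (w 3), qj X (w 6), qj X (w 7)] with hVdef
  have hS : Seven (EQ X) (qj X (w 0)) (qj X (w 1)) V (qj X (w 2)) := by
    refine ⟨fun q => (cw 0 1 (by decide)).1 q (by decide), qj_mem X (F.wmem 0), qj_mem X (F.wmem 1), ?_, ?_,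
      hnb 2 (by decide) (by decide), ?_, fun q => (cw 2 3 (by decide)).1 q (by decide)⟩
    · intro i
      fin_cases i
      · exact ⟨hgn, (cg 1).2 (by decide)⟩
      all_goals exact ⟨hnb _ (by decide) (by decide), (cw _ _ (by decide)).2 (by decide)⟩
    · intro i j hij
      fin_cases i <;> fin_cases j <;>
        first
          | exact absurd rfl hij
          | exact (cg _).trans (by decide)
          | exact (cg' _).trans (by decide)
          | exact (cw _ _ (by decide)).trans (by decide)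
    · intro j hj
      fin_cases j
      · exact (cg' 2).2 (by decide)
      all_goals first
        | exact absurd rfl hj
        | exact (cw _ _ (by decide)).2 (by decide)
  obtain ⟨e22, he22⟩ := exists_iso_seven (geo_EQ X) (type_EQ X).2.1 (type_EQ X).2.2
    (hS.mirror (geo_EQ X) (type_EQ X).2.1 (type_EQ X).2.2)
  set T : List G := ten x g w with hTdef
  set Y : List G := nineL g w with hYdef
  have hYN : ∀ k < 9, fl Y k ∈ NJ X := by
    intro k hk
    interval_cases k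
    exacts [F.wmem 0, F.wmem 1, F.wmem 2, F.wmem 3, F.wmem 4, F.wmem 5, F.gmem, F.wmem 6, F.wmem 7]
  have hYT : ∀ k < 9, fl Y k = fl T (to23 k) := by
    intro k hk
    interval_cases k <;> rfl
  have hpe : ∀ i, i < 9 → qj X (fl Y i) = e22 (fl Coset.Fi22.Lg i) := by
    intro i hi
    rw [he22 i hi]
    interval_cases i <;> rfl
  have hYev : ∀ p : List Nat, (∀ k ∈ p, k < 9) → ev T (p.map to23) ∈ M1 X ∧
      qj X (ev T (p.map to23)) = e22 (ev Coset.Fi22.Lg p) := by
    intro p hp'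
    induction p with
    | nil => exact ⟨one_mem _, by rw [List.map_nil, ev_nil, ev_nil, map_one, qj_eq X (one_mem _)]; exact map_one _⟩
    | cons k p ih =>
      obtain ⟨h1, h2⟩ := ih fun i hi => hp' i (List.mem_cons_of_mem _ hi)
      have hk := hp' k (by simp)
      have h0 : fl T (to23 k) ∈ M1 X := hYT k hk ▸ NJ_M1 X (hYN k hk)
      rw [List.map_cons, ev_cons, ev_cons, map_mul]
      exact ⟨mul_mem h0 h1, by rw [qj_mul X h0 h1, h2, ← hpe k hk, hYT k hk]⟩
  have hxY : ∀ k, k < 9 → k ≠ 6 → Commute (fl T (to23 k)) x := by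
    intro k hk h6
    interval_cases k
    exacts [F.wx 0, F.wx 1, F.wx 2, F.wx 3, F.wx 4, F.wx 5, absurd rfl h6, F.wx 6, F.wx 7]
  have hword : ∀ p, p ∈ Coset.Fi22.rels → (∀ k ∈ p, k < 9 ∧ k ≠ 6) → ev T (p.map to23) = 1 := by
    intro p hp1 hp2
    obtain ⟨h1, h2⟩ := hYev p fun k hk => (hp2 k hk).1
    rw [Coset.Fi22.ev_rels p hp1, map_one, qj_eq X h1] at h2
    rcases (zpowers_tt X).1 (mem_subgroupOf.1 ((QuotientGroup.eq_one_iff _).1 h2)) with q | q
    · exact q
    · exfalso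
      have h := commute_ev T x (p.map to23) fun i hi => by
        obtain ⟨k, hk, rfl⟩ := List.mem_map.1 hi
        exact hxY k (hp2 k hk).1 (hp2 k hk).2
      rw [show ev T (p.map to23) = tt X from q] at h
      exact F.xtt h.symm
  -- the nine members generate the even part
  set S : Subgroup ↥(M1 X) := closure {v | ∃ k < 9, (v : G) = fl Y k}
  have hS_top : S = ⊤ := by
    refine eq_top_of_cover X (eq_top_iff.2 fun q hq => ?_)
    clear hq
    obtain ⟨u, rfl⟩ := e22.surjective q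
    induction (Coset.Fi22.closure_Lg.symm ▸ Subgroup.mem_top u : u ∈ Subgroup.closure {y | y ∈ Coset.Fi22.Lg})
      using Subgroup.closure_induction with
    | mem y hy =>
      obtain ⟨i, hi, rfl⟩ := List.getElem_of_mem hy
      have hi' : i < 9 := Coset.Fi22.len_Lg ▸ hi
      refine ⟨⟨fl Y i, NJ_M1 X (hYN i hi')⟩, subset_closure ⟨i, hi', rfl⟩, ?_⟩
      rw [← qj_eq X, hpe i hi', fl, List.getD_eq_getElem _ _ hi]
    | one => rw [map_one]; exact one_mem _
    | mul p q _ _ hp' hq' => rw [map_mul]; exact mul_mem hp' hq'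
    | inv p _ hp' => rw [map_inv]; exact inv_mem hp'
  -- the last edge
  have hgx : ¬ Commute g x := by
    intro hgx
    refine F.xtt ?_
    have hle : S ≤ (centralizer ({x} : Set G)).subgroupOf (M1 X) := by
      rw [closure_le]
      rintro v ⟨k, hk, e⟩
      rw [SetLike.mem_coe, mem_subgroupOf, mem_centralizer_singleton_iff, e]
      by_cases h6 : k = 6
      · subst h6; exact hgx.eq
      · rw [hYT k hk]; exact (hxY k hk h6).eq
    have : (⟨tt X, tt_M1 X⟩ : ↥(M1 X)) ∈ S := hS_top ▸ mem_top _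
    exact (mem_centralizer_singleton_iff.1 (mem_subgroupOf.1 (hle this))).symm
  have hTsq : ∀ i < 10, fl T i * fl T i = 1 := by
    intro i hi
    interval_cases i
    exacts [NJ_sq X (F.wmem 0), NJ_sq X (F.wmem 1), NJ_sq X (F.wmem 2), NJ_sq X (F.wmem 3), NJ_sq X (F.wmem 4),
      NJ_sq X (F.wmem 5), NJ_sq X F.gmem, F.xsq, NJ_sq X (F.wmem 6), NJ_sq X (F.wmem 7)]
  have hgw' : ∀ i, Commute (w i) g ↔ i ≠ 5 := fun i => ⟨fun q => (F.gw i).1 q.symm, fun q => ((F.gw i).2 q).symm⟩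
  have hxw : ∀ i, Commute x (w i) := fun i => (F.wx i).symm
  have hxg : ¬ Commute x g := fun q => hgx q.symm
  have hTadj : ∀ i < 10, ∀ j < 10, i ≠ j → (Commute (fl T i) (fl T j) ↔ adjT i j = false) := by
    intro i hi j hj hij
    interval_cases i <;> interval_cases j <;>
      simp [hTdef, ten, fl, adjT, F.wc, F.gw, hgw', F.wx, hxw, hgx, hxg, Adj8, adjB8] at hij ⊢
  have hgx' : (x * g) ^ 3 = 1 := by
    have h := F.gx hgx
    rw [show x * g = g⁻¹ * (g * x) * g⁻¹⁻¹ by group, conj_pow, h]; group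
  have hfour : ∀ i < 10, i = 7 ∨ fl T i ∈ NJ X := by
    intro i hi
    interval_cases i <;>
      first
        | exact Or.inl rfl
        | exact Or.inr (F.wmem _)
        | exact Or.inr F.gmem
  have hrels : ∀ u ∈ Coset.Fi23.pres.rels, ev T u = 1 := by
    rw [Coset.Fi23.rels_eq]
    intro u hu
    rcases List.mem_append.1 (Coset.Fi23.rels_covered u hu) with hu | hu
    · obtain ⟨⟨i, j, m⟩, hm, rfl⟩ := List.mem_map.1 hu
      obtain ⟨hi, hj, hk⟩ := pairs_kind _ hm
      dsimp only at hi hj hk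
      rw [pairWord, powWord, Coset.ev_flatten_replicate, ev_cons, ev_cons, ev_nil, mul_one]
      rcases hk with ⟨rfl, rfl⟩ | ⟨hij, rfl, hf⟩ | ⟨hij, rfl, hf⟩
      · rw [pow_one, hTsq i hi]
      · rw [((hTadj i hi j hj hij).2 hf).mul_pow, pow_two, pow_two, hTsq i hi, hTsq j hj, one_mul]
      · have nc : ¬ Commute (fl T i) (fl T j) := fun q => by
          rw [(hTadj i hi j hj hij).1 q] at hf; simp at hf
        rcases hfour i hi with rfl | hiN <;> rcases hfour j hj with rfl | hjN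
        · exact absurd rfl hij
        · have h6 : j = 6 := (by decide : ∀ j < 10, adjT 7 j = true → j = 6) j hj hf
          subst h6
          exact hgx'
        · have h6 : i = 6 := (by decide : ∀ i < 10, adjT i 7 = true → i = 6) i hi hf
          subst h6
          exact F.gx hgx
        · rcases NJ_pair X hiN hjN with q | q
          · refine absurd ?_ nc
            rw [pow_two] at q
            have := eq_inv_of_mul_eq_one_left q
            rw [mul_inv_rev, inv_eq_of_mul_eq_one_right (hTsq i hi), inv_eq_of_mul_eq_one_right (hTsq j hj)] at this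
            exact this
          · exact q
    · obtain ⟨hs1, hc1, hs2, hc2, hs3, hc3⟩ := words22
      simp only [List.mem_cons, List.not_mem_nil, or_false] at hu
      rcases hu with rfl | rfl
      · rw [← hs2]; exact hword _ hs1 hs3
      · rw [← hc2]; exact hword _ hc1 hc3
  set φ : Cfsg.Spor.Fi23 →* G := Coset.Fi23.pres.hom Coset.Fi23.pres_ok hrels
  have hφ : ∀ l < 10, φ (zl l) = fl T l := by
    intro l hl
    obtain ⟨x, rfl⟩ := Coset.Fi23.hix l hl
    exact Coset.Fi23.pres.hom_fl Coset.Fi23.pres_ok hrels x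
  haveI := Coset.Fi23.card_le.1
  have hsimple := Coset.Fi23.isSimple
  have hinjφ : Function.Injective φ := by
    rw [← MonoidHom.ker_eq_bot_iff]
    refine (φ.normal_ker).eq_bot_or_eq_top.resolve_right fun q => ?_
    have h1 : φ (zl 0) = 1 := MonoidHom.mem_ker.1 (q ▸ Subgroup.mem_top _)
    rw [hφ 0 (by norm_num)] at h1
    exact NJ_ne_one X (F.wmem 0) h1
  have hto : ∀ k < 9, to23 k < 10 := by unfold to23; intro k hk; split <;> omega
  refine ⟨φ, hinjφ, fun k hk => by rw [hφ _ (hto k hk), ← hYT k hk]; exact hYN k hk, ?_⟩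
  rw [genW, MonoidHom.map_closure]
  have hM : S.map (M1 X).subtype = M1 X := by rw [hS_top, ← MonoidHom.range_eq_map, Subgroup.range_subtype]
  rw [← hM, MonoidHom.map_closure]
  congr 1
  have hsub : Coset.Fi23.Top.subs = (List.range 9).map fun k => [to23 k] := by decide +kernel
  ext y
  constructor
  · rintro ⟨v, hv, rfl⟩
    obtain ⟨l, hl, rfl⟩ := hv
    rw [hsub] at hl
    obtain ⟨k, hk, rfl⟩ := List.mem_map.1 hl
    rw [List.mem_range] at hk
    refine ⟨⟨fl Y k, NJ_M1 X (hYN k hk)⟩, ⟨k, hk, rfl⟩, ?_⟩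
    rw [zl_ev, hφ _ (hto k hk), ← hYT k hk]
    rfl
  · rintro ⟨v, ⟨k, hk, e⟩, rfl⟩
    refine ⟨ev Coset.Fi23.Lg [to23 k], ⟨[to23 k], ?_, rfl⟩, ?_⟩
    · rw [hsub]; exact List.mem_map.2 ⟨k, List.mem_range.2 hk, rfl⟩
    · rw [zl_ev, hφ _ (hto k hk), ← hYT k hk, ← e]
      rfl

end CfsgLib.FiLarge.Iso
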